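import Cfsg.Agent.Lib.L3E.G.TM10C0
import Cfsg.Agent.Lib.L3E.G.TM10C1
import Cfsg.Agent.Lib.L3E.G.TM10C2
import Cfsg.Agent.Lib.L3E.G.TM10C3
import Cfsg.Agent.Lib.L3E.G.TM10C4
import Cfsg.Agent.Lib.L3E.G.TM10C5
import Cfsg.Agent.Lib.L3E.G.TM10C6
import Cfsg.Agent.Lib.L3E.Rules

/-! Generated certificates (L3E, engine of plans/DIH8.md). -/

set_option autoImplicit false
set_option maxRecDepth 100000
set_option Elab.async false
set_option maxHeartbeats 0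
set_option linter.all false

namespace CfsgLib.L3E.TM10

noncomputable section

universe u

theorem tw34 : Tow.{u} l34 t34 := tow_of tc34_0 (Rng.zero.step tc34_1) (Rng.zero.step tc34_2)
theorem tw35 : Tow.{u} l35 t35 := tow_of tc35_0 (Rng.zero.step tc35_1) (Rng.zero.step tc35_2)
theorem tw36 : Tow.{u} l36 t36 := tow_of tc36_0 (Rng.zero.step tc36_1) (Rng.zero.step tc36_2)
theorem tw37 : Tow.{u} l37 t37 := tow_of tc37_0 (Rng.zero.step tc37_1) (Rng.zero.step tc37_2)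
theorem tw38 : Tow.{u} l38 t38 := tow_of tc38_0 (Rng.zero.step tc38_1) (Rng.zero.step tc38_2)
theorem tw39 : Tow.{u} l39 t39 := tow_of tc39_0 (Rng.zero.step tc39_1) (Rng.zero.step tc39_2)
theorem tw40 : Tow.{u} l40 t40 := tow_of tc40_0 (Rng.zero.step tc40_1) (Rng.zero.step tc40_2)
theorem tw41 : Tow.{u} l41 t41 := tow_of tc41_0 (Rng.zero.step tc41_1) (Rng.zero.step tc41_2)
theorem tw33 : Tow.{u} l33 t33 := tow_of tc33_0 (Rng.zero.step tc33_1) (Rng.zero.step tc33_2)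
theorem tw42 : Tow.{u} l42 t42 := tow_of tc42_0 (Rng.zero.step tc42_1) (Rng.zero.step tc42_2)
theorem tw43 : Tow.{u} l43 t43 := tow_of tc43_0 (Rng.zero.step tc43_1) (Rng.zero.step tc43_2)
theorem tw44 : Tow.{u} l44 t44 := tow_of tc44_0 (Rng.zero.step tc44_1) (Rng.zero.step tc44_2)
theorem tw45 : Tow.{u} l45 t45 := tow_of tc45_0 (Rng.zero.step tc45_1) (Rng.zero.step tc45_2)
theorem tw46 : Tow.{u} l46 t46 := tow_of tc46_0 (Rng.zero.step tc46_1) (Rng.zero.step tc46_2)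
theorem tw47 : Tow.{u} l47 t47 := tow_of tc47_0 (Rng.zero.step tc47_1) (Rng.zero.step tc47_2)
theorem tw48 : Tow.{u} l48 t48 := tow_of tc48_0 (Rng.zero.step tc48_1) (Rng.zero.step tc48_2)
theorem tw49 : Tow.{u} l49 t49 := tow_of tc49_0 (Rng.zero.step tc49_1) (Rng.zero.step tc49_2)
theorem tw17 : Tow.{u} l17 t17 := tow_of tc17_0 (Rng.zero.step tc17_1) (Rng.zero.step tc17_2)
theorem tw18 : Tow.{u} l18 t18 := tow_of tc18_0 (Rng.zero.step tc18_1) (Rng.zero.step tc18_2)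
theorem tw19 : Tow.{u} l19 t19 := tow_of tc19_0 (Rng.zero.step tc19_1) (Rng.zero.step tc19_2)
theorem tw20 : Tow.{u} l20 t20 := tow_of tc20_0 (Rng.zero.step tc20_1) (Rng.zero.step tc20_2)
theorem tw21 : Tow.{u} l21 t21 := tow_of tc21_0 (Rng.zero.step tc21_1) (Rng.zero.step tc21_2)
theorem tw50 : Tow.{u} l50 t50 := tow_of tc50_0 (Rng.zero.step tc50_1) (Rng.zero.step tc50_2)
theorem tw22 : Tow.{u} l22 t22 := tow_of tc22_0 (Rng.zero.step tc22_1) (Rng.zero.step tc22_2)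
theorem tw23 : Tow.{u} l23 t23 := tow_of tc23_0 (Rng.zero.step tc23_1) (Rng.zero.step tc23_2)
theorem tw24 : Tow.{u} l24 t24 := tow_of tc24_0 (Rng.zero.step tc24_1) (Rng.zero.step tc24_2)
theorem tw25 : Tow.{u} l25 t25 := tow_of tc25_0 (Rng.zero.step tc25_1) (Rng.zero.step tc25_2)
theorem tw26 : Tow.{u} l26 t26 := tow_of tc26_0 (Rng.zero.step tc26_1) (Rng.zero.step tc26_2)
theorem tw27 : Tow.{u} l27 t27 := tow_of tc27_0 (Rng.zero.step tc27_1) (Rng.zero.step tc27_2)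
theorem tw28 : Tow.{u} l28 t28 := tow_of tc28_0 (Rng.zero.step tc28_1) (Rng.zero.step tc28_2)
theorem tw29 : Tow.{u} l29 t29 := tow_of tc29_0 (Rng.zero.step tc29_1) (Rng.zero.step tc29_2)
theorem tw30 : Tow.{u} l30 t30 := tow_of tc30_0 (Rng.zero.step tc30_1) (Rng.zero.step tc30_2)
theorem tw31 : Tow.{u} l31 t31 := tow_of tc31_0 (Rng.zero.step tc31_1) (Rng.zero.step tc31_2)
theorem tw32 : Tow.{u} l32 t32 := tow_of tc32_0 (Rng.zero.step tc32_1) (Rng.zero.step tc32_2)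
theorem tw7 : Tow.{u} l7 t7 := tow_of tc7_0 (Rng.zero.step tc7_1) (Rng.zero.step tc7_2)
theorem tw8 : Tow.{u} l8 t8 := tow_of tc8_0 (Rng.zero.step tc8_1) (Rng.zero.step tc8_2)
theorem tw9 : Tow.{u} l9 t9 := tow_of tc9_0 (Rng.zero.step tc9_1) (Rng.zero.step tc9_2)
theorem tw10 : Tow.{u} l10 t10 := tow_of tc10_0 (Rng.zero.step tc10_1) (Rng.zero.step tc10_2)
theorem tw11 : Tow.{u} l11 t11 := tow_of tc11_0 (Rng.zero.step tc11_1) (Rng.zero.step tc11_2)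
theorem tw53 : Tow.{u} l53 t53 := tow_of tc53_0 (Rng.zero.step tc53_1) (Rng.zero.step tc53_2)
theorem tw54 : Tow.{u} l54 t54 := tow_of tc54_0 (Rng.zero.step tc54_1) (Rng.zero.step tc54_2)
theorem tw55 : Tow.{u} l55 t55 := tow_of tc55_0 (Rng.zero.step tc55_1) (Rng.zero.step tc55_2)
theorem tw56 : Tow.{u} l56 t56 := tow_of tc56_0 (Rng.zero.step tc56_1) (Rng.zero.step tc56_2)
theorem tw57 : Tow.{u} l57 t57 := tow_of tc57_0 (Rng.zero.step tc57_1) (Rng.zero.step tc57_2)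
theorem tw58 : Tow.{u} l58 t58 := tow_of tc58_0 (Rng.zero.step tc58_1) (Rng.zero.step tc58_2)
theorem tw59 : Tow.{u} l59 t59 := tow_of tc59_0 (Rng.zero.step tc59_1) (Rng.zero.step tc59_2)
theorem tw60 : Tow.{u} l60 t60 := tow_of tc60_0 (Rng.zero.step tc60_1) (Rng.zero.step tc60_2)
theorem tw61 : Tow.{u} l61 t61 := tow_of tc61_0 (Rng.zero.step tc61_1) (Rng.zero.step tc61_2)
theorem tw62 : Tow.{u} l62 t62 := tow_of tc62_0 (Rng.zero.step tc62_1) (Rng.zero.step tc62_2)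
theorem tw63 : Tow.{u} l63 t63 := tow_of tc63_0 (Rng.zero.step tc63_1) (Rng.zero.step tc63_2)
theorem tw64 : Tow.{u} l64 t64 := tow_of tc64_0 (Rng.zero.step tc64_1) (Rng.zero.step tc64_2)
theorem tw65 : Tow.{u} l65 t65 := tow_of tc65_0 (Rng.zero.step tc65_1) (Rng.zero.step tc65_2)
theorem tw66 : Tow.{u} l66 t66 := tow_of tc66_0 (Rng.zero.step tc66_1) (Rng.zero.step tc66_2)
theorem tw51 : Tow.{u} l51 t51 := tow_of tc51_0 (Rng.zero.step tc51_1) (Rng.zero.step tc51_2)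
theorem tw67 : Tow.{u} l67 t67 := tow_of tc67_0 (Rng.zero.step tc67_1) (Rng.zero.step tc67_2)
theorem tw68 : Tow.{u} l68 t68 := tow_of tc68_0 (Rng.zero.step tc68_1) (Rng.zero.step tc68_2)
theorem tw69 : Tow.{u} l69 t69 := tow_of tc69_0 (Rng.zero.step tc69_1) (Rng.zero.step tc69_2)
theorem tw70 : Tow.{u} l70 t70 := tow_of tc70_0 (Rng.zero.step tc70_1) (Rng.zero.step tc70_2)
theorem tw71 : Tow.{u} l71 t71 := tow_of tc71_0 (Rng.zero.step tc71_1) (Rng.zero.step tc71_2)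
theorem tw72 : Tow.{u} l72 t72 := tow_of tc72_0 (Rng.zero.step tc72_1) (Rng.zero.step tc72_2)
theorem tw52 : Tow.{u} l52 t52 := tow_of tc52_0 (Rng.zero.step tc52_1) (Rng.zero.step tc52_2)
theorem tw12 : Tow.{u} l12 t12 := tow_of tc12_0 (Rng.zero.step tc12_1) (Rng.zero.step tc12_2)
theorem tw13 : Tow.{u} l13 t13 := tow_of tc13_0 (Rng.zero.step tc13_1) (Rng.zero.step tc13_2)
theorem tw14 : Tow.{u} l14 t14 := tow_of tc14_0 (Rng.zero.step tc14_1) (Rng.zero.step tc14_2)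
theorem tw15 : Tow.{u} l15 t15 := tow_of tc15_0 (Rng.zero.step tc15_1) (Rng.zero.step tc15_2)
theorem tw16 : Tow.{u} l16 t16 := tow_of tc16_0 (Rng.zero.step tc16_1) (Rng.zero.step tc16_2)
theorem tw1 : Tow.{u} l1 t1 := tow_of tc1_0 (Rng.zero.step tc1_1) (Rng.zero.step tc1_2)
theorem tw5 : Tow.{u} l5 t5 := tow_of tc5_0 (Rng.zero.step tc5_1) (Rng.zero.step tc5_2)
theorem tw6 : Tow.{u} l6 t6 := tow_of tc6_0 (Rng.zero.step tc6_1) (Rng.zero.step tc6_2)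
theorem tw2 : Tow.{u} l2 t2 := tow_of tc2_0 (Rng.zero.step tc2_1) (Rng.zero.step tc2_2)
theorem tw102 : Tow.{u} l102 t102 := tow_of tc102_0 (Rng.zero.step tc102_1) (Rng.zero.step tc102_2)
theorem tw103 : Tow.{u} l103 t103 := tow_of tc103_0 (Rng.zero.step tc103_1) (Rng.zero.step tc103_2)
theorem tw104 : Tow.{u} l104 t104 := tow_of tc104_0 (Rng.zero.step tc104_1) (Rng.zero.step tc104_2)
theorem tw105 : Tow.{u} l105 t105 := tow_of tc105_0 (Rng.zero.step tc105_1) (Rng.zero.step tc105_2)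
theorem tw106 : Tow.{u} l106 t106 := tow_of tc106_0 (Rng.zero.step tc106_1) (Rng.zero.step tc106_2)
theorem tw107 : Tow.{u} l107 t107 := tow_of tc107_0 (Rng.zero.step tc107_1) (Rng.zero.step tc107_2)
theorem tw108 : Tow.{u} l108 t108 := tow_of tc108_0 (Rng.zero.step tc108_1) (Rng.zero.step tc108_2)
theorem tw109 : Tow.{u} l109 t109 := tow_of tc109_0 (Rng.zero.step tc109_1) (Rng.zero.step tc109_2)
theorem tw101 : Tow.{u} l101 t101 := tow_of tc101_0 (Rng.zero.step tc101_1) (Rng.zero.step tc101_2)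
theorem tw110 : Tow.{u} l110 t110 := tow_of tc110_0 (Rng.zero.step tc110_1) (Rng.zero.step tc110_2)
theorem tw111 : Tow.{u} l111 t111 := tow_of tc111_0 (Rng.zero.step tc111_1) (Rng.zero.step tc111_2)
theorem tw112 : Tow.{u} l112 t112 := tow_of tc112_0 (Rng.zero.step tc112_1) (Rng.zero.step tc112_2)
theorem tw113 : Tow.{u} l113 t113 := tow_of tc113_0 (Rng.zero.step tc113_1) (Rng.zero.step tc113_2)
theorem tw114 : Tow.{u} l114 t114 := tow_of tc114_0 (Rng.zero.step tc114_1) (Rng.zero.step tc114_2)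
theorem tw115 : Tow.{u} l115 t115 := tow_of tc115_0 (Rng.zero.step tc115_1) (Rng.zero.step tc115_2)
theorem tw116 : Tow.{u} l116 t116 := tow_of tc116_0 (Rng.zero.step tc116_1) (Rng.zero.step tc116_2)
theorem tw117 : Tow.{u} l117 t117 := tow_of tc117_0 (Rng.zero.step tc117_1) (Rng.zero.step tc117_2)
theorem tw85 : Tow.{u} l85 t85 := tow_of tc85_0 (Rng.zero.step tc85_1) (Rng.zero.step tc85_2)
theorem tw86 : Tow.{u} l86 t86 := tow_of tc86_0 (Rng.zero.step tc86_1) (Rng.zero.step tc86_2)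
theorem tw87 : Tow.{u} l87 t87 := tow_of tc87_0 (Rng.zero.step tc87_1) (Rng.zero.step tc87_2)
theorem tw88 : Tow.{u} l88 t88 := tow_of tc88_0 (Rng.zero.step tc88_1) (Rng.zero.step tc88_2)
theorem tw89 : Tow.{u} l89 t89 := tow_of tc89_0 (Rng.zero.step tc89_1) (Rng.zero.step tc89_2)
theorem tw118 : Tow.{u} l118 t118 := tow_of tc118_0 (Rng.zero.step tc118_1) (Rng.zero.step tc118_2)
theorem tw90 : Tow.{u} l90 t90 := tow_of tc90_0 (Rng.zero.step tc90_1) (Rng.zero.step tc90_2)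
theorem tw91 : Tow.{u} l91 t91 := tow_of tc91_0 (Rng.zero.step tc91_1) (Rng.zero.step tc91_2)
theorem tw92 : Tow.{u} l92 t92 := tow_of tc92_0 (Rng.zero.step tc92_1) (Rng.zero.step tc92_2)
theorem tw93 : Tow.{u} l93 t93 := tow_of tc93_0 (Rng.zero.step tc93_1) (Rng.zero.step tc93_2)
theorem tw94 : Tow.{u} l94 t94 := tow_of tc94_0 (Rng.zero.step tc94_1) (Rng.zero.step tc94_2)
theorem tw95 : Tow.{u} l95 t95 := tow_of tc95_0 (Rng.zero.step tc95_1) (Rng.zero.step tc95_2)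
theorem tw96 : Tow.{u} l96 t96 := tow_of tc96_0 (Rng.zero.step tc96_1) (Rng.zero.step tc96_2)
theorem tw97 : Tow.{u} l97 t97 := tow_of tc97_0 (Rng.zero.step tc97_1) (Rng.zero.step tc97_2)
theorem tw98 : Tow.{u} l98 t98 := tow_of tc98_0 (Rng.zero.step tc98_1) (Rng.zero.step tc98_2)
theorem tw99 : Tow.{u} l99 t99 := tow_of tc99_0 (Rng.zero.step tc99_1) (Rng.zero.step tc99_2)
theorem tw100 : Tow.{u} l100 t100 := tow_of tc100_0 (Rng.zero.step tc100_1) (Rng.zero.step tc100_2)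
theorem tw75 : Tow.{u} l75 t75 := tow_of tc75_0 (Rng.zero.step tc75_1) (Rng.zero.step tc75_2)
theorem tw76 : Tow.{u} l76 t76 := tow_of tc76_0 (Rng.zero.step tc76_1) (Rng.zero.step tc76_2)
theorem tw77 : Tow.{u} l77 t77 := tow_of tc77_0 (Rng.zero.step tc77_1) (Rng.zero.step tc77_2)
theorem tw78 : Tow.{u} l78 t78 := tow_of tc78_0 (Rng.zero.step tc78_1) (Rng.zero.step tc78_2)
theorem tw79 : Tow.{u} l79 t79 := tow_of tc79_0 (Rng.zero.step tc79_1) (Rng.zero.step tc79_2)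
theorem tw121 : Tow.{u} l121 t121 := tow_of tc121_0 (Rng.zero.step tc121_1) (Rng.zero.step tc121_2)
theorem tw122 : Tow.{u} l122 t122 := tow_of tc122_0 (Rng.zero.step tc122_1) (Rng.zero.step tc122_2)
theorem tw123 : Tow.{u} l123 t123 := tow_of tc123_0 (Rng.zero.step tc123_1) (Rng.zero.step tc123_2)
theorem tw124 : Tow.{u} l124 t124 := tow_of tc124_0 (Rng.zero.step tc124_1) (Rng.zero.step tc124_2)
theorem tw125 : Tow.{u} l125 t125 := tow_of tc125_0 (Rng.zero.step tc125_1) (Rng.zero.step tc125_2)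
theorem tw126 : Tow.{u} l126 t126 := tow_of tc126_0 (Rng.zero.step tc126_1) (Rng.zero.step tc126_2)
theorem tw127 : Tow.{u} l127 t127 := tow_of tc127_0 (Rng.zero.step tc127_1) (Rng.zero.step tc127_2)
theorem tw128 : Tow.{u} l128 t128 := tow_of tc128_0 (Rng.zero.step tc128_1) (Rng.zero.step tc128_2)
theorem tw129 : Tow.{u} l129 t129 := tow_of tc129_0 (Rng.zero.step tc129_1) (Rng.zero.step tc129_2)
theorem tw130 : Tow.{u} l130 t130 := tow_of tc130_0 (Rng.zero.step tc130_1) (Rng.zero.step tc130_2)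
theorem tw131 : Tow.{u} l131 t131 := tow_of tc131_0 (Rng.zero.step tc131_1) (Rng.zero.step tc131_2)
theorem tw132 : Tow.{u} l132 t132 := tow_of tc132_0 (Rng.zero.step tc132_1) (Rng.zero.step tc132_2)
theorem tw133 : Tow.{u} l133 t133 := tow_of tc133_0 (Rng.zero.step tc133_1) (Rng.zero.step tc133_2)
theorem tw134 : Tow.{u} l134 t134 := tow_of tc134_0 (Rng.zero.step tc134_1) (Rng.zero.step tc134_2)
theorem tw119 : Tow.{u} l119 t119 := tow_of tc119_0 (Rng.zero.step tc119_1) (Rng.zero.step tc119_2)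
theorem tw135 : Tow.{u} l135 t135 := tow_of tc135_0 (Rng.zero.step tc135_1) (Rng.zero.step tc135_2)
theorem tw136 : Tow.{u} l136 t136 := tow_of tc136_0 (Rng.zero.step tc136_1) (Rng.zero.step tc136_2)
theorem tw137 : Tow.{u} l137 t137 := tow_of tc137_0 (Rng.zero.step tc137_1) (Rng.zero.step tc137_2)
theorem tw138 : Tow.{u} l138 t138 := tow_of tc138_0 (Rng.zero.step tc138_1) (Rng.zero.step tc138_2)
theorem tw139 : Tow.{u} l139 t139 := tow_of tc139_0 (Rng.zero.step tc139_1) (Rng.zero.step tc139_2)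
theorem tw140 : Tow.{u} l140 t140 := tow_of tc140_0 (Rng.zero.step tc140_1) (Rng.zero.step tc140_2)
theorem tw120 : Tow.{u} l120 t120 := tow_of tc120_0 (Rng.zero.step tc120_1) (Rng.zero.step tc120_2)
theorem tw80 : Tow.{u} l80 t80 := tow_of tc80_0 (Rng.zero.step tc80_1) (Rng.zero.step tc80_2)
theorem tw81 : Tow.{u} l81 t81 := tow_of tc81_0 (Rng.zero.step tc81_1) (Rng.zero.step tc81_2)
theorem tw82 : Tow.{u} l82 t82 := tow_of tc82_0 (Rng.zero.step tc82_1) (Rng.zero.step tc82_2)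
theorem tw83 : Tow.{u} l83 t83 := tow_of tc83_0 (Rng.zero.step tc83_1) (Rng.zero.step tc83_2)
theorem tw84 : Tow.{u} l84 t84 := tow_of tc84_0 (Rng.zero.step tc84_1) (Rng.zero.step tc84_2)
theorem tw3 : Tow.{u} l3 t3 := tow_of tc3_0 (Rng.zero.step tc3_1) (Rng.zero.step tc3_2)
theorem tw73 : Tow.{u} l73 t73 := tow_of tc73_0 (Rng.zero.step tc73_1) (Rng.zero.step tc73_2)
theorem tw74 : Tow.{u} l74 t74 := tow_of tc74_0 (Rng.zero.step tc74_1) (Rng.zero.step tc74_2)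
theorem tw4 : Tow.{u} l4 t4 := tow_of tc4_0 (Rng.zero.step tc4_1) (Rng.zero.step tc4_2)
theorem tw0 : Tow.{u} [] t0 := tow_of tc0_0 (Rng.zero.step tc0_1) (Rng.zero.step tc0_2)
theorem x79 : AuxS.{u} (cM2r 1 0) s79 0 a79 := aux_base3 tw34 rfl b79
theorem x79_1 : AuxS.{u} (cM2r 1 0) s79 0 a79_1 := (AuxS.up x79 c79_9 :)
theorem x79_2 : AuxS.{u} (cM2r 1 0) s79 0 a79_2 := (AuxS.up x79_1 c79_10 :)
theorem x79_3p : AuxS.{u} (cM2r 1 0) s79 0 a79_3p := (AuxS.up x79_2 c79_11 :)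
theorem x79_3 : AuxS.{u} (cM2r 1 0) s79 0 a79_3 := (AuxS.up2 x79_3p c79_12 :)
theorem x79_L1_1 : AuxS.{u} (cM2r 1 0) s79 (1 + 2) a79_L1_1 := (AuxS.hp (x79_3.lam 1) c79_2 :)
theorem x79_L513_1 : AuxS.{u} (cM2r 1 0) s79 (513 + 2) a79_L513_1 := (AuxS.hp (x79_3.lam 513) c79_5 :)
theorem n79 : Sound.{u} (cM2r 1 0) s79 0 :=
  (x79_3.spl c79_0 (AllM.cons ((x79_3.lam 0).tp c79_1 :) (AllM.cons (x79_L1_1.tp c79_3 :) (AllM.cons ((x79_3.lam 261).e8 c79_4 :) (AllM.cons (x79_L513_1.tp c79_6 :) (AllM.cons ((x79_3.lam 773).e8 c79_7 :) AllM.nil))))) ((x79_3.weaken 1).ext2 (fun _ => rfl) GamS.nil AllS.nil c79_8 (Phs.fin (ct := ct79_8) rfl) (Phs.fin (ct := ct79_8) rfl)) :)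
theorem x80 : AuxS.{u} (cM2r 1 0) s80 0 a80 := aux_base3 tw35 rfl b80
theorem x80_1 : AuxS.{u} (cM2r 1 0) s80 0 a80_1 := (AuxS.up x80 c80_9 :)
theorem x80_2 : AuxS.{u} (cM2r 1 0) s80 0 a80_2 := (AuxS.up x80_1 c80_10 :)
theorem x80_3 : AuxS.{u} (cM2r 1 0) s80 0 a80_3 := (AuxS.up2 x80_2 c80_11 :)
theorem x80_L1_1 : AuxS.{u} (cM2r 1 0) s80 (1 + 2) a80_L1_1 := (AuxS.hp (x80_3.lam 1) c80_2 :)
theorem x80_L513_1 : AuxS.{u} (cM2r 1 0) s80 (513 + 2) a80_L513_1 := (AuxS.hp (x80_3.lam 513) c80_5 :)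
theorem n80 : Sound.{u} (cM2r 1 0) s80 0 :=
  (x80_3.spl c80_0 (AllM.cons ((x80_3.lam 0).tp c80_1 :) (AllM.cons (x80_L1_1.tp c80_3 :) (AllM.cons ((x80_3.lam 261).e8 c80_4 :) (AllM.cons (x80_L513_1.tp c80_6 :) (AllM.cons ((x80_3.lam 773).e8 c80_7 :) AllM.nil))))) ((x80_3.weaken 1).ext2 (fun _ => rfl) GamS.nil AllS.nil c80_8 (Phs.fin (ct := ct80_8) rfl) (Phs.fin (ct := ct80_8) rfl)) :)
theorem x81 : AuxS.{u} (cM2r 1 0) s81 0 a81 := aux_base3 tw36 rfl b81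
theorem x81_1 : AuxS.{u} (cM2r 1 0) s81 0 a81_1 := (AuxS.up x81 c81_9 :)
theorem x81_2 : AuxS.{u} (cM2r 1 0) s81 0 a81_2 := (AuxS.up x81_1 c81_10 :)
theorem x81_3 : AuxS.{u} (cM2r 1 0) s81 0 a81_3 := (AuxS.up2 x81_2 c81_11 :)
theorem x81_L1_1 : AuxS.{u} (cM2r 1 0) s81 (1 + 2) a81_L1_1 := (AuxS.hp (x81_3.lam 1) c81_2 :)
theorem x81_L513_1 : AuxS.{u} (cM2r 1 0) s81 (513 + 2) a81_L513_1 := (AuxS.hp (x81_3.lam 513) c81_5 :)
theorem n81 : Sound.{u} (cM2r 1 0) s81 0 :=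
  (x81_3.spl c81_0 (AllM.cons ((x81_3.lam 0).tp c81_1 :) (AllM.cons (x81_L1_1.tp c81_3 :) (AllM.cons ((x81_3.lam 261).e8 c81_4 :) (AllM.cons (x81_L513_1.tp c81_6 :) (AllM.cons ((x81_3.lam 773).e8 c81_7 :) AllM.nil))))) ((x81_3.weaken 1).ext2 (fun _ => rfl) GamS.nil AllS.nil c81_8 (Phs.fin (ct := ct81_8) rfl) (Phs.fin (ct := ct81_8) rfl)) :)
theorem x82 : AuxS.{u} (cM2r 1 0) s82 0 a82 := aux_base3 tw37 rfl b82
theorem x82_1 : AuxS.{u} (cM2r 1 0) s82 0 a82_1 := (AuxS.up x82 c82_9 :)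
theorem x82_2 : AuxS.{u} (cM2r 1 0) s82 0 a82_2 := (AuxS.up x82_1 c82_10 :)
theorem x82_3p : AuxS.{u} (cM2r 1 0) s82 0 a82_3p := (AuxS.up x82_2 c82_11 :)
theorem x82_3 : AuxS.{u} (cM2r 1 0) s82 0 a82_3 := (AuxS.up2 x82_3p c82_12 :)
theorem x82_L1_1 : AuxS.{u} (cM2r 1 0) s82 (1 + 2) a82_L1_1 := (AuxS.hp (x82_3.lam 1) c82_2 :)
theorem x82_L513_1 : AuxS.{u} (cM2r 1 0) s82 (513 + 2) a82_L513_1 := (AuxS.hp (x82_3.lam 513) c82_5 :)
theorem n82 : Sound.{u} (cM2r 1 0) s82 0 :=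
  (x82_3.spl c82_0 (AllM.cons ((x82_3.lam 0).tp c82_1 :) (AllM.cons (x82_L1_1.tp c82_3 :) (AllM.cons ((x82_3.lam 261).e8 c82_4 :) (AllM.cons (x82_L513_1.tp c82_6 :) (AllM.cons ((x82_3.lam 773).e8 c82_7 :) AllM.nil))))) ((x82_3.weaken 1).ext2 (fun _ => rfl) GamS.nil AllS.nil c82_8 (Phs.fin (ct := ct82_8) rfl) (Phs.fin (ct := ct82_8) rfl)) :)
theorem x83 : AuxS.{u} (cM2r 1 0) s83 0 a83 := aux_base3 tw38 rfl b83
theorem x83_1 : AuxS.{u} (cM2r 1 0) s83 0 a83_1 := (AuxS.up x83 c83_9 :)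
theorem x83_2 : AuxS.{u} (cM2r 1 0) s83 0 a83_2 := (AuxS.up2 x83_1 c83_10 :)
theorem x83_3 : AuxS.{u} (cM2r 1 0) s83 0 a83_3 := (AuxS.up x83_2 c83_11 :)
theorem x83_L1_1 : AuxS.{u} (cM2r 1 0) s83 (1 + 2) a83_L1_1 := (AuxS.hp (x83_3.lam 1) c83_2 :)
theorem x83_L513_1 : AuxS.{u} (cM2r 1 0) s83 (513 + 2) a83_L513_1 := (AuxS.hp (x83_3.lam 513) c83_5 :)
theorem n83 : Sound.{u} (cM2r 1 0) s83 0 :=
  (x83_3.spl c83_0 (AllM.cons ((x83_3.lam 0).tp c83_1 :) (AllM.cons (x83_L1_1.tp c83_3 :) (AllM.cons ((x83_3.lam 261).e8 c83_4 :) (AllM.cons (x83_L513_1.tp c83_6 :) (AllM.cons ((x83_3.lam 773).e8 c83_7 :) AllM.nil))))) ((x83_3.weaken 1).ext2 (fun _ => rfl) GamS.nil AllS.nil c83_8 (Phs.fin (ct := ct83_8) rfl) (Phs.fin (ct := ct83_8) rfl)) :)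
theorem x84 : AuxS.{u} (cM2r 1 0) s84 0 a84 := aux_base3 tw39 rfl b84
theorem x84_1 : AuxS.{u} (cM2r 1 0) s84 0 a84_1 := (AuxS.up x84 c84_9 :)
theorem x84_L1_1 : AuxS.{u} (cM2r 1 0) s84 (1 + 2) a84_L1_1 := (AuxS.hp (x84_1.lam 1) c84_2 :)
theorem x84_L513_1 : AuxS.{u} (cM2r 1 0) s84 (513 + 2) a84_L513_1 := (AuxS.hp (x84_1.lam 513) c84_5 :)
theorem n84 : Sound.{u} (cM2r 1 0) s84 0 :=
  (x84_1.spl c84_0 (AllM.cons ((x84_1.lam 0).tp c84_1 :) (AllM.cons (x84_L1_1.tp c84_3 :) (AllM.cons ((x84_1.lam 261).e8 c84_4 :) (AllM.cons (x84_L513_1.tp c84_6 :) (AllM.cons ((x84_1.lam 773).e8 c84_7 :) AllM.nil))))) ((x84_1.weaken 1).ext2 (fun _ => rfl) GamS.nil AllS.nil c84_8 (Phs.fin (ct := ct84_8) rfl) (Phs.fin (ct := ct84_8) rfl)) :)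
theorem x85 : AuxS.{u} (cM2r 1 0) s85 0 a85 := aux_base3 tw40 rfl b85
theorem x85_1 : AuxS.{u} (cM2r 1 0) s85 0 a85_1 := (AuxS.up x85 c85_9 :)
theorem x85_2 : AuxS.{u} (cM2r 1 0) s85 0 a85_2 := (AuxS.up x85_1 c85_10 :)
theorem x85_3 : AuxS.{u} (cM2r 1 0) s85 0 a85_3 := (AuxS.up2 x85_2 c85_11 :)
theorem x85_L1_1 : AuxS.{u} (cM2r 1 0) s85 (1 + 2) a85_L1_1 := (AuxS.hp (x85_3.lam 1) c85_2 :)
theorem x85_L513_1 : AuxS.{u} (cM2r 1 0) s85 (513 + 2) a85_L513_1 := (AuxS.hp (x85_3.lam 513) c85_5 :)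
theorem n85 : Sound.{u} (cM2r 1 0) s85 0 :=
  (x85_3.spl c85_0 (AllM.cons ((x85_3.lam 0).tp c85_1 :) (AllM.cons (x85_L1_1.tp c85_3 :) (AllM.cons ((x85_3.lam 261).e8 c85_4 :) (AllM.cons (x85_L513_1.tp c85_6 :) (AllM.cons ((x85_3.lam 773).e8 c85_7 :) AllM.nil))))) ((x85_3.weaken 1).ext2 (fun _ => rfl) GamS.nil AllS.nil c85_8 (Phs.fin (ct := ct85_8) rfl) (Phs.fin (ct := ct85_8) rfl)) :)
theorem x86 : AuxS.{u} (cM2r 1 0) s86 0 a86 := aux_base3 tw41 rfl b86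
theorem x86_1 : AuxS.{u} (cM2r 1 0) s86 0 a86_1 := (AuxS.up x86 c86_9 :)
theorem x86_2 : AuxS.{u} (cM2r 1 0) s86 0 a86_2 := (AuxS.up x86_1 c86_10 :)
theorem x86_3 : AuxS.{u} (cM2r 1 0) s86 0 a86_3 := (AuxS.up2 x86_2 c86_11 :)
theorem x86_L1_1 : AuxS.{u} (cM2r 1 0) s86 (1 + 2) a86_L1_1 := (AuxS.hp (x86_3.lam 1) c86_2 :)
theorem x86_L513_1 : AuxS.{u} (cM2r 1 0) s86 (513 + 2) a86_L513_1 := (AuxS.hp (x86_3.lam 513) c86_5 :)
theorem n86 : Sound.{u} (cM2r 1 0) s86 0 :=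
  (x86_3.spl c86_0 (AllM.cons ((x86_3.lam 0).tp c86_1 :) (AllM.cons (x86_L1_1.tp c86_3 :) (AllM.cons ((x86_3.lam 261).e8 c86_4 :) (AllM.cons (x86_L513_1.tp c86_6 :) (AllM.cons ((x86_3.lam 773).e8 c86_7 :) AllM.nil))))) ((x86_3.weaken 1).ext2 (fun _ => rfl) GamS.nil AllS.nil c86_8 (Phs.fin (ct := ct86_8) rfl) (Phs.fin (ct := ct86_8) rfl)) :)
theorem x47 : AuxS.{u} (cM2r 1 0) s47 0 a47 := aux_base3 tw33 rfl b47
theorem x47_1 : AuxS.{u} (cM2r 1 0) s47 0 a47_1 := (AuxS.up x47 c47_15 :)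
theorem x47_2 : AuxS.{u} (cM2r 1 0) s47 0 a47_2 := (AuxS.up x47_1 c47_16 :)
theorem x47_3 : AuxS.{u} (cM2r 1 0) s47 0 a47_3 := (AuxS.up2 x47_2 c47_17 :)
theorem x47_L1_1 : AuxS.{u} (cM2r 1 0) s47 (1 + 2) a47_L1_1 := (AuxS.hp (x47_3.lam 1) c47_2 :)
theorem x47_L1_2 : AuxS.{u} (cM2r 1 0) s47 (1 + 2) a47_L1_2 := (AuxS.ne x47_L1_1 c47_3 :)
theorem x47_L257_1 : AuxS.{u} (cM2r 1 0) s47 (257 + 2) a47_L257_1 := (AuxS.hp (x47_3.lam 257) c47_6 :)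
theorem p47_9_1 : Phs s47 a47_3 [] [s79, s80, s81, s82, s83, s84, s85, s86] ct47_9 v47_9 5 w47_9_1 := (Phs.fin c47_9)
theorem p47_9_3 : Phs s47 a47_3 [] [s79, s80, s81, s82, s83, s84, s85, s86] ct47_9 v47_9 4 w47_9_3 := (Phs.stp c47_10 p47_9_1)
theorem p47_9_5 : Phs s47 a47_3 [] [s79, s80, s81, s82, s83, s84, s85, s86] ct47_9 v47_9 2 w47_9_5 := (Phs.stp c47_11 p47_9_3)
theorem p47_9_7 : Phs s47 a47_3 [] [s79, s80, s81, s82, s83, s84, s85, s86] ct47_9 v47_9 1 w47_9_7 := (Phs.stp c47_12 p47_9_5)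
theorem n47 : Sound.{u} (cM2r 1 0) s47 0 :=
  (x47_3.spl c47_0 (AllM.cons ((x47_3.lam 0).tp c47_1 :) (AllM.cons (x47_L1_2.tp c47_4 :) (AllM.cons ((x47_3.lam 5).e8 c47_5 :) (AllM.cons (x47_L257_1.tp c47_7 :) (AllM.cons ((x47_3.lam 261).e8 c47_8 :) AllM.nil))))) ((x47_3.weaken 1).ext2 (fun _ => rfl) GamS.nil (AllS.cons n79 (AllS.cons n80 (AllS.cons n81 (AllS.cons n82 (AllS.cons n83 (AllS.cons n84 (AllS.cons n85 (AllS.cons n86 AllS.nil)))))))) c47_14 (Phs.stp c47_13 p47_9_7) (Phs.fin (ct := ct47_9) rfl)) :)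
theorem x48 : AuxS.{u} (cM2r 1 0) s48 0 a48 := aux_base3 tw33 rfl b48
theorem n48 : Sound.{u} (cM2r 1 0) s48 0 :=
  (x48.k4 c48_0 :)
theorem x49 : AuxS.{u} (cM2r 1 0) s49 0 a49 := aux_base3 tw33 rfl b49
theorem n49 : Sound.{u} (cM2r 1 0) s49 0 :=
  (x49.k4 c49_0 :)
theorem x50 : AuxS.{u} (cM2r 1 0) s50 0 a50 := aux_base3 tw33 rfl b50
theorem n50 : Sound.{u} (cM2r 1 0) s50 0 :=
  (x50.k4 c50_0 :)
theorem x51 : AuxS.{u} (cM2r 1 0) s51 0 a51 := aux_base3 tw33 rfl b51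
theorem n51 : Sound.{u} (cM2r 1 0) s51 0 :=
  (x51.k4 c51_0 :)
theorem x52 : AuxS.{u} (cM2r 1 0) s52 0 a52 := aux_base3 tw33 rfl b52
theorem n52 : Sound.{u} (cM2r 1 0) s52 0 :=
  (x52.k4 c52_0 :)
theorem x53 : AuxS.{u} (cM2r 1 0) s53 0 a53 := aux_base3 tw33 rfl b53
theorem n53 : Sound.{u} (cM2r 1 0) s53 0 :=
  (x53.k4 c53_0 :)
theorem x54 : AuxS.{u} (cM2r 1 0) s54 0 a54 := aux_base3 tw33 rfl b54
theorem n54 : Sound.{u} (cM2r 1 0) s54 0 :=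
  (x54.k4 c54_0 :)
theorem x55 : AuxS.{u} (cM2r 1 0) s55 0 a55 := aux_base3 tw33 rfl b55
theorem n55 : Sound.{u} (cM2r 1 0) s55 0 :=
  (x55.k4 c55_0 :)
theorem x56 : AuxS.{u} (cM2r 1 0) s56 0 a56 := aux_base3 tw33 rfl b56
theorem n56 : Sound.{u} (cM2r 1 0) s56 0 :=
  (x56.k4 c56_0 :)
theorem x57 : AuxS.{u} (cM2r 1 0) s57 0 a57 := aux_base3 tw33 rfl b57
theorem n57 : Sound.{u} (cM2r 1 0) s57 0 :=
  (x57.k4 c57_0 :)
theorem x58 : AuxS.{u} (cM2r 1 0) s58 0 a58 := aux_base3 tw33 rfl b58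
theorem n58 : Sound.{u} (cM2r 1 0) s58 0 :=
  (x58.k4 c58_0 :)
theorem x59 : AuxS.{u} (cM2r 1 0) s59 0 a59 := aux_base3 tw33 rfl b59
theorem n59 : Sound.{u} (cM2r 1 0) s59 0 :=
  (x59.k4 c59_0 :)
theorem x60 : AuxS.{u} (cM2r 1 0) s60 0 a60 := aux_base3 tw33 rfl b60
theorem x60_1 : AuxS.{u} (cM2r 1 0) s60 0 a60_1 := x60
theorem x60_2 : AuxS.{u} (cM2r 1 0) s60 0 a60_2 := x60_1
theorem x60_3 : AuxS.{u} (cM2r 1 0) s60 0 a60_3 := x60_2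
theorem n60 : Sound.{u} (cM2r 1 0) s60 0 :=
  (x60_3.jump c60_0 c60_1 n47 :)
theorem x61 : AuxS.{u} (cM2r 1 0) s61 0 a61 := aux_base3 tw33 rfl b61
theorem n61 : Sound.{u} (cM2r 1 0) s61 0 :=
  (x61.k4 c61_0 :)
theorem x62 : AuxS.{u} (cM2r 1 0) s62 0 a62 := aux_base3 tw33 rfl b62
theorem n62 : Sound.{u} (cM2r 1 0) s62 0 :=
  (x62.k4 c62_0 :)
theorem x63 : AuxS.{u} (cM2r 1 0) s63 0 a63 := aux_base3 tw33 rfl b63
theorem x63_1 : AuxS.{u} (cM2r 1 0) s63 0 a63_1 := x63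
theorem x63_2 : AuxS.{u} (cM2r 1 0) s63 0 a63_2 := x63_1
theorem x63_3 : AuxS.{u} (cM2r 1 0) s63 0 a63_3 := x63_2
theorem n63 : Sound.{u} (cM2r 1 0) s63 0 :=
  (x63_3.jump c63_0 c63_1 n47 :)
theorem x64 : AuxS.{u} (cM2r 1 0) s64 0 a64 := aux_base3 tw33 rfl b64
theorem n64 : Sound.{u} (cM2r 1 0) s64 0 :=
  (x64.k4 c64_0 :)
theorem x65 : AuxS.{u} (cM2r 1 0) s65 0 a65 := aux_base3 tw33 rfl b65
theorem n65 : Sound.{u} (cM2r 1 0) s65 0 :=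
  (x65.k4 c65_0 :)
theorem x66 : AuxS.{u} (cM2r 1 0) s66 0 a66 := aux_base3 tw33 rfl b66
theorem n66 : Sound.{u} (cM2r 1 0) s66 0 :=
  (x66.k4 c66_0 :)
theorem x67 : AuxS.{u} (cM2r 1 0) s67 0 a67 := aux_base3 tw33 rfl b67
theorem n67 : Sound.{u} (cM2r 1 0) s67 0 :=
  (x67.k4 c67_0 :)
theorem x68 : AuxS.{u} (cM2r 1 0) s68 0 a68 := aux_base3 tw33 rfl b68
theorem n68 : Sound.{u} (cM2r 1 0) s68 0 :=
  (x68.k4 c68_0 :)
theorem x69 : AuxS.{u} (cM2r 1 0) s69 0 a69 := aux_base3 tw33 rfl b69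
theorem n69 : Sound.{u} (cM2r 1 0) s69 0 :=
  (x69.k4 c69_0 :)
theorem x70 : AuxS.{u} (cM2r 1 0) s70 0 a70 := aux_base3 tw33 rfl b70
theorem n70 : Sound.{u} (cM2r 1 0) s70 0 :=
  (x70.k4 c70_0 :)
theorem x71 : AuxS.{u} (cM2r 1 0) s71 0 a71 := aux_base3 tw33 rfl b71
theorem n71 : Sound.{u} (cM2r 1 0) s71 0 :=
  (x71.k4 c71_0 :)
theorem x72 : AuxS.{u} (cM2r 1 0) s72 0 a72 := aux_base3 tw33 rfl b72
theorem n72 : Sound.{u} (cM2r 1 0) s72 0 :=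
  (x72.k4 c72_0 :)
theorem x73 : AuxS.{u} (cM2r 1 0) s73 0 a73 := aux_base3 tw33 rfl b73
theorem n73 : Sound.{u} (cM2r 1 0) s73 0 :=
  (x73.k4 c73_0 :)
theorem x74 : AuxS.{u} (cM2r 1 0) s74 0 a74 := aux_base3 tw33 rfl b74
theorem n74 : Sound.{u} (cM2r 1 0) s74 0 :=
  (x74.k4 c74_0 :)
theorem x75 : AuxS.{u} (cM2r 1 0) s75 0 a75 := aux_base3 tw33 rfl b75
theorem n75 : Sound.{u} (cM2r 1 0) s75 0 :=
  (x75.k4 c75_0 :)
theorem x76 : AuxS.{u} (cM2r 1 0) s76 0 a76 := aux_base3 tw33 rfl b76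
theorem x76_1 : AuxS.{u} (cM2r 1 0) s76 0 a76_1 := x76
theorem x76_2 : AuxS.{u} (cM2r 1 0) s76 0 a76_2 := x76_1
theorem x76_3 : AuxS.{u} (cM2r 1 0) s76 0 a76_3 := x76_2
theorem n76 : Sound.{u} (cM2r 1 0) s76 0 :=
  (x76_3.jump c76_0 c76_1 n47 :)
theorem x77 : AuxS.{u} (cM2r 1 0) s77 0 a77 := aux_base3 tw33 rfl b77
theorem n77 : Sound.{u} (cM2r 1 0) s77 0 :=
  (x77.k4 c77_0 :)
theorem x78 : AuxS.{u} (cM2r 1 0) s78 0 a78 := aux_base3 tw33 rfl b78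
theorem n78 : Sound.{u} (cM2r 1 0) s78 0 :=
  (x78.k4 c78_0 :)
theorem x43 : AuxS.{u} (cM2r 1 0) s43 0 a43 := aux_base3 tw33 rfl b43
theorem x43_1 : AuxS.{u} (cM2r 1 0) s43 0 a43_1 := x43
theorem x43_2 : AuxS.{u} (cM2r 1 0) s43 0 a43_2 := x43_1
theorem x43_3 : AuxS.{u} (cM2r 1 0) s43 0 a43_3 := x43_2
theorem n43 : Sound.{u} (cM2r 1 0) s43 0 :=
  (x43_3.fr GamS.nil (AllS.cons n47 (AllS.cons n48 (AllS.cons n49 (AllS.cons n50 (AllS.cons n51 (AllS.cons n52 (AllS.cons n53 (AllS.cons n54 (AllS.cons n55 (AllS.cons n56 (AllS.cons n57 (AllS.cons n58 (AllS.cons n59 (AllS.cons n60 (AllS.cons n61 (AllS.cons n62 (AllS.cons n63 (AllS.cons n64 (AllS.cons n65 (AllS.cons n66 (AllS.cons n67 (AllS.cons n68 (AllS.cons n69 (AllS.cons n70 (AllS.cons n71 (AllS.cons n72 (AllS.cons n73 (AllS.cons n74 (AllS.cons n75 (AllS.cons n76 (AllS.cons n77 (AllS.cons n78 AllS.nil))))))))))))))))))))))))))))))))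 c43_0 :)
theorem x119 : AuxS.{u} (cM2r 1 0) s119 0 a119 := aux_base3 tw42 rfl b119
theorem x119_1 : AuxS.{u} (cM2r 1 0) s119 0 a119_1 := (AuxS.up x119 c119_9 :)
theorem x119_2 : AuxS.{u} (cM2r 1 0) s119 0 a119_2 := (AuxS.up x119_1 c119_10 :)
theorem x119_3p : AuxS.{u} (cM2r 1 0) s119 0 a119_3p := (AuxS.up x119_2 c119_11 :)
theorem x119_3 : AuxS.{u} (cM2r 1 0) s119 0 a119_3 := (AuxS.up2 x119_3p c119_12 :)
theorem x119_L1_1 : AuxS.{u} (cM2r 1 0) s119 (1 + 2) a119_L1_1 := (AuxS.hp (x119_3.lam 1) c119_2 :)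
theorem x119_L513_1 : AuxS.{u} (cM2r 1 0) s119 (513 + 2) a119_L513_1 := (AuxS.hp (x119_3.lam 513) c119_5 :)
theorem n119 : Sound.{u} (cM2r 1 0) s119 0 :=
  (x119_3.spl c119_0 (AllM.cons ((x119_3.lam 0).tp c119_1 :) (AllM.cons (x119_L1_1.tp c119_3 :) (AllM.cons ((x119_3.lam 261).e8 c119_4 :) (AllM.cons (x119_L513_1.tp c119_6 :) (AllM.cons ((x119_3.lam 773).e8 c119_7 :) AllM.nil))))) ((x119_3.weaken 1).ext2 (fun _ => rfl) GamS.nil AllS.nil c119_8 (Phs.fin (ct := ct119_8) rfl) (Phs.fin (ct := ct119_8) rfl)) :)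
theorem x120 : AuxS.{u} (cM2r 1 0) s120 0 a120 := aux_base3 tw43 rfl b120
theorem x120_1 : AuxS.{u} (cM2r 1 0) s120 0 a120_1 := (AuxS.up x120 c120_9 :)
theorem x120_2 : AuxS.{u} (cM2r 1 0) s120 0 a120_2 := (AuxS.up x120_1 c120_10 :)
theorem x120_3 : AuxS.{u} (cM2r 1 0) s120 0 a120_3 := (AuxS.up2 x120_2 c120_11 :)
theorem x120_L1_1 : AuxS.{u} (cM2r 1 0) s120 (1 + 2) a120_L1_1 := (AuxS.hp (x120_3.lam 1) c120_2 :)
theorem x120_L513_1 : AuxS.{u} (cM2r 1 0) s120 (513 + 2) a120_L513_1 := (AuxS.hp (x120_3.lam 513) c120_5 :)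
theorem n120 : Sound.{u} (cM2r 1 0) s120 0 :=
  (x120_3.spl c120_0 (AllM.cons ((x120_3.lam 0).tp c120_1 :) (AllM.cons (x120_L1_1.tp c120_3 :) (AllM.cons ((x120_3.lam 261).e8 c120_4 :) (AllM.cons (x120_L513_1.tp c120_6 :) (AllM.cons ((x120_3.lam 773).e8 c120_7 :) AllM.nil))))) ((x120_3.weaken 1).ext2 (fun _ => rfl) GamS.nil AllS.nil c120_8 (Phs.fin (ct := ct120_8) rfl) (Phs.fin (ct := ct120_8) rfl)) :)
theorem x121 : AuxS.{u} (cM2r 1 0) s121 0 a121 := aux_base3 tw44 rfl b121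
theorem x121_1 : AuxS.{u} (cM2r 1 0) s121 0 a121_1 := (AuxS.up x121 c121_9 :)
theorem x121_2 : AuxS.{u} (cM2r 1 0) s121 0 a121_2 := (AuxS.up x121_1 c121_10 :)
theorem x121_3 : AuxS.{u} (cM2r 1 0) s121 0 a121_3 := (AuxS.up2 x121_2 c121_11 :)
theorem x121_L1_1 : AuxS.{u} (cM2r 1 0) s121 (1 + 2) a121_L1_1 := (AuxS.hp (x121_3.lam 1) c121_2 :)
theorem x121_L513_1 : AuxS.{u} (cM2r 1 0) s121 (513 + 2) a121_L513_1 := (AuxS.hp (x121_3.lam 513) c121_5 :)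
theorem n121 : Sound.{u} (cM2r 1 0) s121 0 :=
  (x121_3.spl c121_0 (AllM.cons ((x121_3.lam 0).tp c121_1 :) (AllM.cons (x121_L1_1.tp c121_3 :) (AllM.cons ((x121_3.lam 261).e8 c121_4 :) (AllM.cons (x121_L513_1.tp c121_6 :) (AllM.cons ((x121_3.lam 773).e8 c121_7 :) AllM.nil))))) ((x121_3.weaken 1).ext2 (fun _ => rfl) GamS.nil AllS.nil c121_8 (Phs.fin (ct := ct121_8) rfl) (Phs.fin (ct := ct121_8) rfl)) :)
theorem x122 : AuxS.{u} (cM2r 1 0) s122 0 a122 := aux_base3 tw45 rfl b122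
theorem x122_1 : AuxS.{u} (cM2r 1 0) s122 0 a122_1 := (AuxS.up x122 c122_9 :)
theorem x122_2 : AuxS.{u} (cM2r 1 0) s122 0 a122_2 := (AuxS.up x122_1 c122_10 :)
theorem x122_3p : AuxS.{u} (cM2r 1 0) s122 0 a122_3p := (AuxS.up x122_2 c122_11 :)
theorem x122_3 : AuxS.{u} (cM2r 1 0) s122 0 a122_3 := (AuxS.up2 x122_3p c122_12 :)
theorem x122_L1_1 : AuxS.{u} (cM2r 1 0) s122 (1 + 2) a122_L1_1 := (AuxS.hp (x122_3.lam 1) c122_2 :)
theorem x122_L513_1 : AuxS.{u} (cM2r 1 0) s122 (513 + 2) a122_L513_1 := (AuxS.hp (x122_3.lam 513) c122_5 :)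
theorem n122 : Sound.{u} (cM2r 1 0) s122 0 :=
  (x122_3.spl c122_0 (AllM.cons ((x122_3.lam 0).tp c122_1 :) (AllM.cons (x122_L1_1.tp c122_3 :) (AllM.cons ((x122_3.lam 261).e8 c122_4 :) (AllM.cons (x122_L513_1.tp c122_6 :) (AllM.cons ((x122_3.lam 773).e8 c122_7 :) AllM.nil))))) ((x122_3.weaken 1).ext2 (fun _ => rfl) GamS.nil AllS.nil c122_8 (Phs.fin (ct := ct122_8) rfl) (Phs.fin (ct := ct122_8) rfl)) :)
theorem x123 : AuxS.{u} (cM2r 1 0) s123 0 a123 := aux_base3 tw46 rfl b123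
theorem x123_1 : AuxS.{u} (cM2r 1 0) s123 0 a123_1 := (AuxS.up x123 c123_9 :)
theorem x123_2 : AuxS.{u} (cM2r 1 0) s123 0 a123_2 := (AuxS.up2 x123_1 c123_10 :)
theorem x123_3 : AuxS.{u} (cM2r 1 0) s123 0 a123_3 := (AuxS.up x123_2 c123_11 :)
theorem x123_L1_1 : AuxS.{u} (cM2r 1 0) s123 (1 + 2) a123_L1_1 := (AuxS.hp (x123_3.lam 1) c123_2 :)
theorem x123_L513_1 : AuxS.{u} (cM2r 1 0) s123 (513 + 2) a123_L513_1 := (AuxS.hp (x123_3.lam 513) c123_5 :)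
theorem n123 : Sound.{u} (cM2r 1 0) s123 0 :=
  (x123_3.spl c123_0 (AllM.cons ((x123_3.lam 0).tp c123_1 :) (AllM.cons (x123_L1_1.tp c123_3 :) (AllM.cons ((x123_3.lam 261).e8 c123_4 :) (AllM.cons (x123_L513_1.tp c123_6 :) (AllM.cons ((x123_3.lam 773).e8 c123_7 :) AllM.nil))))) ((x123_3.weaken 1).ext2 (fun _ => rfl) GamS.nil AllS.nil c123_8 (Phs.fin (ct := ct123_8) rfl) (Phs.fin (ct := ct123_8) rfl)) :)
theorem x124 : AuxS.{u} (cM2r 1 0) s124 0 a124 := aux_base3 tw47 rfl b124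
theorem x124_1 : AuxS.{u} (cM2r 1 0) s124 0 a124_1 := (AuxS.up x124 c124_9 :)
theorem x124_L1_1 : AuxS.{u} (cM2r 1 0) s124 (1 + 2) a124_L1_1 := (AuxS.hp (x124_1.lam 1) c124_2 :)
theorem x124_L513_1 : AuxS.{u} (cM2r 1 0) s124 (513 + 2) a124_L513_1 := (AuxS.hp (x124_1.lam 513) c124_5 :)
theorem n124 : Sound.{u} (cM2r 1 0) s124 0 :=
  (x124_1.spl c124_0 (AllM.cons ((x124_1.lam 0).tp c124_1 :) (AllM.cons (x124_L1_1.tp c124_3 :) (AllM.cons ((x124_1.lam 261).e8 c124_4 :) (AllM.cons (x124_L513_1.tp c124_6 :) (AllM.cons ((x124_1.lam 773).e8 c124_7 :) AllM.nil))))) ((x124_1.weaken 1).ext2 (fun _ => rfl) GamS.nil AllS.nil c124_8 (Phs.fin (ct := ct124_8) rfl) (Phs.fin (ct := ct124_8) rfl)) :)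
theorem x125 : AuxS.{u} (cM2r 1 0) s125 0 a125 := aux_base3 tw48 rfl b125
theorem x125_1 : AuxS.{u} (cM2r 1 0) s125 0 a125_1 := (AuxS.up x125 c125_9 :)
theorem x125_2 : AuxS.{u} (cM2r 1 0) s125 0 a125_2 := (AuxS.up x125_1 c125_10 :)
theorem x125_3 : AuxS.{u} (cM2r 1 0) s125 0 a125_3 := (AuxS.up2 x125_2 c125_11 :)
theorem x125_L1_1 : AuxS.{u} (cM2r 1 0) s125 (1 + 2) a125_L1_1 := (AuxS.hp (x125_3.lam 1) c125_2 :)
theorem x125_L513_1 : AuxS.{u} (cM2r 1 0) s125 (513 + 2) a125_L513_1 := (AuxS.hp (x125_3.lam 513) c125_5 :)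
theorem n125 : Sound.{u} (cM2r 1 0) s125 0 :=
  (x125_3.spl c125_0 (AllM.cons ((x125_3.lam 0).tp c125_1 :) (AllM.cons (x125_L1_1.tp c125_3 :) (AllM.cons ((x125_3.lam 261).e8 c125_4 :) (AllM.cons (x125_L513_1.tp c125_6 :) (AllM.cons ((x125_3.lam 773).e8 c125_7 :) AllM.nil))))) ((x125_3.weaken 1).ext2 (fun _ => rfl) GamS.nil AllS.nil c125_8 (Phs.fin (ct := ct125_8) rfl) (Phs.fin (ct := ct125_8) rfl)) :)
theorem x126 : AuxS.{u} (cM2r 1 0) s126 0 a126 := aux_base3 tw49 rfl b126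
theorem x126_1 : AuxS.{u} (cM2r 1 0) s126 0 a126_1 := (AuxS.up x126 c126_9 :)
theorem x126_2 : AuxS.{u} (cM2r 1 0) s126 0 a126_2 := (AuxS.up x126_1 c126_10 :)
theorem x126_3 : AuxS.{u} (cM2r 1 0) s126 0 a126_3 := (AuxS.up2 x126_2 c126_11 :)
theorem x126_L1_1 : AuxS.{u} (cM2r 1 0) s126 (1 + 2) a126_L1_1 := (AuxS.hp (x126_3.lam 1) c126_2 :)
theorem x126_L513_1 : AuxS.{u} (cM2r 1 0) s126 (513 + 2) a126_L513_1 := (AuxS.hp (x126_3.lam 513) c126_5 :)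
theorem n126 : Sound.{u} (cM2r 1 0) s126 0 :=
  (x126_3.spl c126_0 (AllM.cons ((x126_3.lam 0).tp c126_1 :) (AllM.cons (x126_L1_1.tp c126_3 :) (AllM.cons ((x126_3.lam 261).e8 c126_4 :) (AllM.cons (x126_L513_1.tp c126_6 :) (AllM.cons ((x126_3.lam 773).e8 c126_7 :) AllM.nil))))) ((x126_3.weaken 1).ext2 (fun _ => rfl) GamS.nil AllS.nil c126_8 (Phs.fin (ct := ct126_8) rfl) (Phs.fin (ct := ct126_8) rfl)) :)
theorem x87 : AuxS.{u} (cM2r 1 0) s87 0 a87 := aux_base3 tw33 rfl b87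
theorem x87_1 : AuxS.{u} (cM2r 1 0) s87 0 a87_1 := (AuxS.up x87 c87_15 :)
theorem x87_2 : AuxS.{u} (cM2r 1 0) s87 0 a87_2 := (AuxS.up x87_1 c87_16 :)
theorem x87_3 : AuxS.{u} (cM2r 1 0) s87 0 a87_3 := (AuxS.up2 x87_2 c87_17 :)
theorem x87_L1_1 : AuxS.{u} (cM2r 1 0) s87 (1 + 2) a87_L1_1 := (AuxS.hp (x87_3.lam 1) c87_2 :)
theorem x87_L1_2 : AuxS.{u} (cM2r 1 0) s87 (1 + 2) a87_L1_2 := (AuxS.ne x87_L1_1 c87_3 :)
theorem x87_L257_1 : AuxS.{u} (cM2r 1 0) s87 (257 + 2) a87_L257_1 := (AuxS.hp (x87_3.lam 257) c87_6 :)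
theorem p87_9_1 : Phs s87 a87_3 [] [s119, s120, s121, s122, s123, s124, s125, s126] ct87_9 v87_9 5 w87_9_1 := (Phs.fin c87_9)
theorem p87_9_3 : Phs s87 a87_3 [] [s119, s120, s121, s122, s123, s124, s125, s126] ct87_9 v87_9 4 w87_9_3 := (Phs.stp c87_10 p87_9_1)
theorem p87_9_5 : Phs s87 a87_3 [] [s119, s120, s121, s122, s123, s124, s125, s126] ct87_9 v87_9 2 w87_9_5 := (Phs.stp c87_11 p87_9_3)
theorem p87_9_7 : Phs s87 a87_3 [] [s119, s120, s121, s122, s123, s124, s125, s126] ct87_9 v87_9 1 w87_9_7 := (Phs.stp c87_12 p87_9_5)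
theorem n87 : Sound.{u} (cM2r 1 0) s87 0 :=
  (x87_3.spl c87_0 (AllM.cons ((x87_3.lam 0).tp c87_1 :) (AllM.cons (x87_L1_2.tp c87_4 :) (AllM.cons ((x87_3.lam 5).e8 c87_5 :) (AllM.cons (x87_L257_1.tp c87_7 :) (AllM.cons ((x87_3.lam 261).e8 c87_8 :) AllM.nil))))) ((x87_3.weaken 1).ext2 (fun _ => rfl) GamS.nil (AllS.cons n119 (AllS.cons n120 (AllS.cons n121 (AllS.cons n122 (AllS.cons n123 (AllS.cons n124 (AllS.cons n125 (AllS.cons n126 AllS.nil)))))))) c87_14 (Phs.stp c87_13 p87_9_7) (Phs.fin (ct := ct87_9) rfl)) :)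
theorem x88 : AuxS.{u} (cM2r 1 0) s88 0 a88 := aux_base3 tw33 rfl b88
theorem n88 : Sound.{u} (cM2r 1 0) s88 0 :=
  (x88.k4 c88_0 :)
theorem x89 : AuxS.{u} (cM2r 1 0) s89 0 a89 := aux_base3 tw33 rfl b89
theorem n89 : Sound.{u} (cM2r 1 0) s89 0 :=
  (x89.k4 c89_0 :)
theorem x90 : AuxS.{u} (cM2r 1 0) s90 0 a90 := aux_base3 tw33 rfl b90
theorem n90 : Sound.{u} (cM2r 1 0) s90 0 :=
  (x90.k4 c90_0 :)
theorem x91 : AuxS.{u} (cM2r 1 0) s91 0 a91 := aux_base3 tw33 rfl b91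
theorem n91 : Sound.{u} (cM2r 1 0) s91 0 :=
  (x91.k4 c91_0 :)
theorem x92 : AuxS.{u} (cM2r 1 0) s92 0 a92 := aux_base3 tw33 rfl b92
theorem n92 : Sound.{u} (cM2r 1 0) s92 0 :=
  (x92.k4 c92_0 :)
theorem x93 : AuxS.{u} (cM2r 1 0) s93 0 a93 := aux_base3 tw33 rfl b93
theorem n93 : Sound.{u} (cM2r 1 0) s93 0 :=
  (x93.k4 c93_0 :)
theorem x94 : AuxS.{u} (cM2r 1 0) s94 0 a94 := aux_base3 tw33 rfl b94
theorem n94 : Sound.{u} (cM2r 1 0) s94 0 :=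
  (x94.k4 c94_0 :)
theorem x95 : AuxS.{u} (cM2r 1 0) s95 0 a95 := aux_base3 tw33 rfl b95
theorem n95 : Sound.{u} (cM2r 1 0) s95 0 :=
  (x95.k4 c95_0 :)
theorem x96 : AuxS.{u} (cM2r 1 0) s96 0 a96 := aux_base3 tw33 rfl b96
theorem n96 : Sound.{u} (cM2r 1 0) s96 0 :=
  (x96.k4 c96_0 :)
theorem x97 : AuxS.{u} (cM2r 1 0) s97 0 a97 := aux_base3 tw33 rfl b97
theorem n97 : Sound.{u} (cM2r 1 0) s97 0 :=
  (x97.k4 c97_0 :)
theorem x98 : AuxS.{u} (cM2r 1 0) s98 0 a98 := aux_base3 tw33 rfl b98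
theorem n98 : Sound.{u} (cM2r 1 0) s98 0 :=
  (x98.k4 c98_0 :)
theorem x99 : AuxS.{u} (cM2r 1 0) s99 0 a99 := aux_base3 tw33 rfl b99
theorem n99 : Sound.{u} (cM2r 1 0) s99 0 :=
  (x99.k4 c99_0 :)
theorem x100 : AuxS.{u} (cM2r 1 0) s100 0 a100 := aux_base3 tw33 rfl b100
theorem x100_1 : AuxS.{u} (cM2r 1 0) s100 0 a100_1 := x100
theorem x100_2 : AuxS.{u} (cM2r 1 0) s100 0 a100_2 := x100_1
theorem x100_3 : AuxS.{u} (cM2r 1 0) s100 0 a100_3 := x100_2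
theorem n100 : Sound.{u} (cM2r 1 0) s100 0 :=
  (x100_3.jump c100_0 c100_1 n87 :)
theorem x101 : AuxS.{u} (cM2r 1 0) s101 0 a101 := aux_base3 tw33 rfl b101
theorem n101 : Sound.{u} (cM2r 1 0) s101 0 :=
  (x101.k4 c101_0 :)
theorem x102 : AuxS.{u} (cM2r 1 0) s102 0 a102 := aux_base3 tw33 rfl b102
theorem n102 : Sound.{u} (cM2r 1 0) s102 0 :=
  (x102.k4 c102_0 :)
theorem x103 : AuxS.{u} (cM2r 1 0) s103 0 a103 := aux_base3 tw33 rfl b103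
theorem x103_1 : AuxS.{u} (cM2r 1 0) s103 0 a103_1 := x103
theorem x103_2 : AuxS.{u} (cM2r 1 0) s103 0 a103_2 := x103_1
theorem x103_3 : AuxS.{u} (cM2r 1 0) s103 0 a103_3 := x103_2
theorem n103 : Sound.{u} (cM2r 1 0) s103 0 :=
  (x103_3.jump c103_0 c103_1 n87 :)
theorem x104 : AuxS.{u} (cM2r 1 0) s104 0 a104 := aux_base3 tw33 rfl b104
theorem n104 : Sound.{u} (cM2r 1 0) s104 0 :=
  (x104.k4 c104_0 :)
theorem x105 : AuxS.{u} (cM2r 1 0) s105 0 a105 := aux_base3 tw33 rfl b105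
theorem n105 : Sound.{u} (cM2r 1 0) s105 0 :=
  (x105.k4 c105_0 :)
theorem x106 : AuxS.{u} (cM2r 1 0) s106 0 a106 := aux_base3 tw33 rfl b106
theorem n106 : Sound.{u} (cM2r 1 0) s106 0 :=
  (x106.k4 c106_0 :)
theorem x107 : AuxS.{u} (cM2r 1 0) s107 0 a107 := aux_base3 tw33 rfl b107
theorem n107 : Sound.{u} (cM2r 1 0) s107 0 :=
  (x107.k4 c107_0 :)
theorem x108 : AuxS.{u} (cM2r 1 0) s108 0 a108 := aux_base3 tw33 rfl b108
theorem n108 : Sound.{u} (cM2r 1 0) s108 0 :=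
  (x108.k4 c108_0 :)
theorem x109 : AuxS.{u} (cM2r 1 0) s109 0 a109 := aux_base3 tw33 rfl b109
theorem n109 : Sound.{u} (cM2r 1 0) s109 0 :=
  (x109.k4 c109_0 :)
theorem x110 : AuxS.{u} (cM2r 1 0) s110 0 a110 := aux_base3 tw33 rfl b110
theorem n110 : Sound.{u} (cM2r 1 0) s110 0 :=
  (x110.k4 c110_0 :)
theorem x111 : AuxS.{u} (cM2r 1 0) s111 0 a111 := aux_base3 tw33 rfl b111
theorem n111 : Sound.{u} (cM2r 1 0) s111 0 :=
  (x111.k4 c111_0 :)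
theorem x112 : AuxS.{u} (cM2r 1 0) s112 0 a112 := aux_base3 tw33 rfl b112
theorem n112 : Sound.{u} (cM2r 1 0) s112 0 :=
  (x112.k4 c112_0 :)
theorem x113 : AuxS.{u} (cM2r 1 0) s113 0 a113 := aux_base3 tw33 rfl b113
theorem n113 : Sound.{u} (cM2r 1 0) s113 0 :=
  (x113.k4 c113_0 :)
theorem x114 : AuxS.{u} (cM2r 1 0) s114 0 a114 := aux_base3 tw33 rfl b114
theorem n114 : Sound.{u} (cM2r 1 0) s114 0 :=
  (x114.k4 c114_0 :)
theorem x115 : AuxS.{u} (cM2r 1 0) s115 0 a115 := aux_base3 tw33 rfl b115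
theorem n115 : Sound.{u} (cM2r 1 0) s115 0 :=
  (x115.k4 c115_0 :)
theorem x116 : AuxS.{u} (cM2r 1 0) s116 0 a116 := aux_base3 tw33 rfl b116
theorem x116_1 : AuxS.{u} (cM2r 1 0) s116 0 a116_1 := x116
theorem x116_2 : AuxS.{u} (cM2r 1 0) s116 0 a116_2 := x116_1
theorem x116_3 : AuxS.{u} (cM2r 1 0) s116 0 a116_3 := x116_2
theorem n116 : Sound.{u} (cM2r 1 0) s116 0 :=
  (x116_3.jump c116_0 c116_1 n87 :)
theorem x117 : AuxS.{u} (cM2r 1 0) s117 0 a117 := aux_base3 tw33 rfl b117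
theorem n117 : Sound.{u} (cM2r 1 0) s117 0 :=
  (x117.k4 c117_0 :)
theorem x118 : AuxS.{u} (cM2r 1 0) s118 0 a118 := aux_base3 tw33 rfl b118
theorem n118 : Sound.{u} (cM2r 1 0) s118 0 :=
  (x118.k4 c118_0 :)
theorem x44 : AuxS.{u} (cM2r 1 0) s44 0 a44 := aux_base3 tw33 rfl b44
theorem x44_1 : AuxS.{u} (cM2r 1 0) s44 0 a44_1 := x44
theorem x44_2 : AuxS.{u} (cM2r 1 0) s44 0 a44_2 := x44_1
theorem x44_3 : AuxS.{u} (cM2r 1 0) s44 0 a44_3 := x44_2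
theorem n44 : Sound.{u} (cM2r 1 0) s44 0 :=
  (x44_3.fr GamS.nil (AllS.cons n87 (AllS.cons n88 (AllS.cons n89 (AllS.cons n90 (AllS.cons n91 (AllS.cons n92 (AllS.cons n93 (AllS.cons n94 (AllS.cons n95 (AllS.cons n96 (AllS.cons n97 (AllS.cons n98 (AllS.cons n99 (AllS.cons n100 (AllS.cons n101 (AllS.cons n102 (AllS.cons n103 (AllS.cons n104 (AllS.cons n105 (AllS.cons n106 (AllS.cons n107 (AllS.cons n108 (AllS.cons n109 (AllS.cons n110 (AllS.cons n111 (AllS.cons n112 (AllS.cons n113 (AllS.cons n114 (AllS.cons n115 (AllS.cons n116 (AllS.cons n117 (AllS.cons n118 AllS.nil)))))))))))))))))))))))))))))))) c44_0 :)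
theorem x45 : AuxS.{u} (cM2r 1 0) s45 0 a45 := aux_base3 tw33 rfl b45
theorem x45_1 : AuxS.{u} (cM2r 1 0) s45 0 a45_1 := x45
theorem x45_2 : AuxS.{u} (cM2r 1 0) s45 0 a45_2 := x45_1
theorem x45_3 : AuxS.{u} (cM2r 1 0) s45 0 a45_3 := x45_2
theorem n45 : Sound.{u} (cM2r 1 0) s45 0 :=
  (x45_3.jump c45_0 c45_1 n43 :)
theorem x46 : AuxS.{u} (cM2r 1 0) s46 0 a46 := aux_base3 tw33 rfl b46
theorem x46_1 : AuxS.{u} (cM2r 1 0) s46 0 a46_1 := x46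
theorem x46_2 : AuxS.{u} (cM2r 1 0) s46 0 a46_2 := x46_1
theorem x46_3 : AuxS.{u} (cM2r 1 0) s46 0 a46_3 := x46_2
theorem n46 : Sound.{u} (cM2r 1 0) s46 0 :=
  (x46_3.jump c46_0 c46_1 n44 :)
theorem x42 : AuxS.{u} (cM2r 1 0) s42 0 a42 := aux_base3 tw33 rfl b42
theorem x42_1 : AuxS.{u} (cM2r 1 0) s42 0 a42_1 := x42
theorem x42_2 : AuxS.{u} (cM2r 1 0) s42 0 a42_2 := x42_1
theorem x42_3 : AuxS.{u} (cM2r 1 0) s42 0 a42_3 := x42_2
theorem n42 : Sound.{u} (cM2r 1 0) s42 0 :=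
  (x42_3.rho (AllS.cons n43 (AllS.cons n44 (AllS.cons n45 (AllS.cons n46 AllS.nil)))) c42_0 :)
theorem x26 : AuxS.{u} (cM2r 1 0) s26 0 a26 := aux_base3 tw17 rfl b26
theorem x26_1 : AuxS.{u} (cM2r 1 0) s26 0 a26_1 := x26
theorem x26_2 : AuxS.{u} (cM2r 1 0) s26 0 a26_2 := x26_1
theorem x26_3 : AuxS.{u} (cM2r 1 0) s26 0 a26_3 := x26_2
theorem n26 : Sound.{u} (cM2r 1 0) s26 0 :=
  (x26_3.fr2 (AuxS.gam x26_3 c26_0) (AllS.cons n42 AllS.nil) c26_1 :)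
theorem x27 : AuxS.{u} (cM2r 1 0) s27 0 a27 := aux_base3 tw18 rfl b27
theorem x27_1 : AuxS.{u} (cM2r 1 0) s27 0 a27_1 := x27
theorem x27_2 : AuxS.{u} (cM2r 1 0) s27 0 a27_2 := x27_1
theorem n27 : Sound.{u} (cM2r 1 0) s27 0 :=
  (x27_2.fr2 GamS.nil AllS.nil c27_0 :)
theorem x28 : AuxS.{u} (cM2r 1 0) s28 0 a28 := aux_base3 tw19 rfl b28
theorem x28_1 : AuxS.{u} (cM2r 1 0) s28 0 a28_1 := x28
theorem x28_2 : AuxS.{u} (cM2r 1 0) s28 0 a28_2 := x28_1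
theorem n28 : Sound.{u} (cM2r 1 0) s28 0 :=
  (x28_2.fr2 GamS.nil AllS.nil c28_0 :)
theorem x29 : AuxS.{u} (cM2r 1 0) s29 0 a29 := aux_base3 tw20 rfl b29
theorem x29_1 : AuxS.{u} (cM2r 1 0) s29 0 a29_1 := x29
theorem x29_2 : AuxS.{u} (cM2r 1 0) s29 0 a29_2 := x29_1
theorem n29 : Sound.{u} (cM2r 1 0) s29 0 :=
  (x29_2.fr2 GamS.nil AllS.nil c29_0 :)
theorem x30 : AuxS.{u} (cM2r 1 0) s30 0 a30 := aux_base3 tw21 rfl b30
theorem x30_1 : AuxS.{u} (cM2r 1 0) s30 0 a30_1 := x30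
theorem x30_2 : AuxS.{u} (cM2r 1 0) s30 0 a30_2 := x30_1
theorem x30_3 : AuxS.{u} (cM2r 1 0) s30 0 a30_3 := x30_2
theorem n30 : Sound.{u} (cM2r 1 0) s30 0 :=
  (x30_3.fr2 GamS.nil AllS.nil c30_0 :)
theorem x132 : AuxS.{u} (cM2r 1 0) s132 0 a132 := aux_base3 tw50 rfl b132
theorem x132_1 : AuxS.{u} (cM2r 1 0) s132 0 a132_1 := (AuxS.up x132 c132_9 :)
theorem x132_2 : AuxS.{u} (cM2r 1 0) s132 0 a132_2 := (AuxS.up x132_1 c132_10 :)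
theorem x132_3 : AuxS.{u} (cM2r 1 0) s132 0 a132_3 := (AuxS.up2 x132_2 c132_11 :)
theorem x132_L1_1 : AuxS.{u} (cM2r 1 0) s132 (1 + 2) a132_L1_1 := (AuxS.hp (x132_3.lam 1) c132_2 :)
theorem x132_L257_1 : AuxS.{u} (cM2r 1 0) s132 (257 + 2) a132_L257_1 := (AuxS.hp (x132_3.lam 257) c132_5 :)
theorem n132 : Sound.{u} (cM2r 1 0) s132 0 :=
  (x132_3.spl c132_0 (AllM.cons ((x132_3.lam 0).tp c132_1 :) (AllM.cons (x132_L1_1.tp c132_3 :) (AllM.cons ((x132_3.lam 5).e8 c132_4 :) (AllM.cons (x132_L257_1.tp c132_6 :) (AllM.cons ((x132_3.lam 261).e8 c132_7 :) AllM.nil))))) ((x132_3.weaken 1).ext2 (fun _ => rfl) GamS.nil AllS.nil c132_8 (Phs.fin (ct := ct132_8) rfl) (Phs.fin (ct := ct132_8) rfl)) :)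
theorem x133 : AuxS.{u} (cM2r 1 0) s133 0 a133 := aux_base3 tw50 rfl b133
theorem n133 : Sound.{u} (cM2r 1 0) s133 0 :=
  (x133.k4 c133_0 :)
theorem x134 : AuxS.{u} (cM2r 1 0) s134 0 a134 := aux_base3 tw50 rfl b134
theorem n134 : Sound.{u} (cM2r 1 0) s134 0 :=
  (x134.k4 c134_0 :)
theorem x135 : AuxS.{u} (cM2r 1 0) s135 0 a135 := aux_base3 tw50 rfl b135
theorem n135 : Sound.{u} (cM2r 1 0) s135 0 :=
  (x135.k4 c135_0 :)
theorem x136 : AuxS.{u} (cM2r 1 0) s136 0 a136 := aux_base3 tw50 rfl b136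
theorem n136 : Sound.{u} (cM2r 1 0) s136 0 :=
  (x136.k4 c136_0 :)
theorem x137 : AuxS.{u} (cM2r 1 0) s137 0 a137 := aux_base3 tw50 rfl b137
theorem n137 : Sound.{u} (cM2r 1 0) s137 0 :=
  (x137.k4 c137_0 :)
theorem x138 : AuxS.{u} (cM2r 1 0) s138 0 a138 := aux_base3 tw50 rfl b138
theorem n138 : Sound.{u} (cM2r 1 0) s138 0 :=
  (x138.k4 c138_0 :)
theorem x139 : AuxS.{u} (cM2r 1 0) s139 0 a139 := aux_base3 tw50 rfl b139
theorem n139 : Sound.{u} (cM2r 1 0) s139 0 :=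
  (x139.k4 c139_0 :)
theorem x140 : AuxS.{u} (cM2r 1 0) s140 0 a140 := aux_base3 tw50 rfl b140
theorem n140 : Sound.{u} (cM2r 1 0) s140 0 :=
  (x140.k4 c140_0 :)
theorem x141 : AuxS.{u} (cM2r 1 0) s141 0 a141 := aux_base3 tw50 rfl b141
theorem n141 : Sound.{u} (cM2r 1 0) s141 0 :=
  (x141.k4 c141_0 :)
theorem x142 : AuxS.{u} (cM2r 1 0) s142 0 a142 := aux_base3 tw50 rfl b142
theorem n142 : Sound.{u} (cM2r 1 0) s142 0 :=
  (x142.k4 c142_0 :)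
theorem x143 : AuxS.{u} (cM2r 1 0) s143 0 a143 := aux_base3 tw50 rfl b143
theorem n143 : Sound.{u} (cM2r 1 0) s143 0 :=
  (x143.k4 c143_0 :)
theorem x144 : AuxS.{u} (cM2r 1 0) s144 0 a144 := aux_base3 tw50 rfl b144
theorem n144 : Sound.{u} (cM2r 1 0) s144 0 :=
  (x144.k4 c144_0 :)
theorem x145 : AuxS.{u} (cM2r 1 0) s145 0 a145 := aux_base3 tw50 rfl b145
theorem x145_1 : AuxS.{u} (cM2r 1 0) s145 0 a145_1 := x145
theorem x145_2 : AuxS.{u} (cM2r 1 0) s145 0 a145_2 := x145_1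
theorem x145_3 : AuxS.{u} (cM2r 1 0) s145 0 a145_3 := x145_2
theorem n145 : Sound.{u} (cM2r 1 0) s145 0 :=
  (x145_3.jump c145_0 c145_1 n132 :)
theorem x146 : AuxS.{u} (cM2r 1 0) s146 0 a146 := aux_base3 tw50 rfl b146
theorem n146 : Sound.{u} (cM2r 1 0) s146 0 :=
  (x146.k4 c146_0 :)
theorem x147 : AuxS.{u} (cM2r 1 0) s147 0 a147 := aux_base3 tw50 rfl b147
theorem n147 : Sound.{u} (cM2r 1 0) s147 0 :=
  (x147.k4 c147_0 :)
theorem x148 : AuxS.{u} (cM2r 1 0) s148 0 a148 := aux_base3 tw50 rfl b148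
theorem x148_1 : AuxS.{u} (cM2r 1 0) s148 0 a148_1 := x148
theorem x148_2 : AuxS.{u} (cM2r 1 0) s148 0 a148_2 := x148_1
theorem x148_3 : AuxS.{u} (cM2r 1 0) s148 0 a148_3 := x148_2
theorem n148 : Sound.{u} (cM2r 1 0) s148 0 :=
  (x148_3.jump c148_0 c148_1 n132 :)
theorem x149 : AuxS.{u} (cM2r 1 0) s149 0 a149 := aux_base3 tw50 rfl b149
theorem n149 : Sound.{u} (cM2r 1 0) s149 0 :=
  (x149.k4 c149_0 :)
theorem x150 : AuxS.{u} (cM2r 1 0) s150 0 a150 := aux_base3 tw50 rfl b150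
theorem n150 : Sound.{u} (cM2r 1 0) s150 0 :=
  (x150.k4 c150_0 :)
theorem x151 : AuxS.{u} (cM2r 1 0) s151 0 a151 := aux_base3 tw50 rfl b151
theorem n151 : Sound.{u} (cM2r 1 0) s151 0 :=
  (x151.k4 c151_0 :)
theorem x152 : AuxS.{u} (cM2r 1 0) s152 0 a152 := aux_base3 tw50 rfl b152
theorem n152 : Sound.{u} (cM2r 1 0) s152 0 :=
  (x152.k4 c152_0 :)
theorem x153 : AuxS.{u} (cM2r 1 0) s153 0 a153 := aux_base3 tw50 rfl b153
theorem n153 : Sound.{u} (cM2r 1 0) s153 0 :=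
  (x153.k4 c153_0 :)
theorem x154 : AuxS.{u} (cM2r 1 0) s154 0 a154 := aux_base3 tw50 rfl b154
theorem n154 : Sound.{u} (cM2r 1 0) s154 0 :=
  (x154.k4 c154_0 :)
theorem x155 : AuxS.{u} (cM2r 1 0) s155 0 a155 := aux_base3 tw50 rfl b155
theorem n155 : Sound.{u} (cM2r 1 0) s155 0 :=
  (x155.k4 c155_0 :)
theorem x156 : AuxS.{u} (cM2r 1 0) s156 0 a156 := aux_base3 tw50 rfl b156
theorem n156 : Sound.{u} (cM2r 1 0) s156 0 :=
  (x156.k4 c156_0 :)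
theorem x157 : AuxS.{u} (cM2r 1 0) s157 0 a157 := aux_base3 tw50 rfl b157
theorem n157 : Sound.{u} (cM2r 1 0) s157 0 :=
  (x157.k4 c157_0 :)
theorem x158 : AuxS.{u} (cM2r 1 0) s158 0 a158 := aux_base3 tw50 rfl b158
theorem n158 : Sound.{u} (cM2r 1 0) s158 0 :=
  (x158.k4 c158_0 :)
theorem x159 : AuxS.{u} (cM2r 1 0) s159 0 a159 := aux_base3 tw50 rfl b159
theorem n159 : Sound.{u} (cM2r 1 0) s159 0 :=
  (x159.k4 c159_0 :)
theorem x160 : AuxS.{u} (cM2r 1 0) s160 0 a160 := aux_base3 tw50 rfl b160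
theorem n160 : Sound.{u} (cM2r 1 0) s160 0 :=
  (x160.k4 c160_0 :)
theorem x161 : AuxS.{u} (cM2r 1 0) s161 0 a161 := aux_base3 tw50 rfl b161
theorem x161_1 : AuxS.{u} (cM2r 1 0) s161 0 a161_1 := x161
theorem x161_2 : AuxS.{u} (cM2r 1 0) s161 0 a161_2 := x161_1
theorem x161_3 : AuxS.{u} (cM2r 1 0) s161 0 a161_3 := x161_2
theorem n161 : Sound.{u} (cM2r 1 0) s161 0 :=
  (x161_3.jump c161_0 c161_1 n132 :)
theorem x162 : AuxS.{u} (cM2r 1 0) s162 0 a162 := aux_base3 tw50 rfl b162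
theorem n162 : Sound.{u} (cM2r 1 0) s162 0 :=
  (x162.k4 c162_0 :)
theorem x163 : AuxS.{u} (cM2r 1 0) s163 0 a163 := aux_base3 tw50 rfl b163
theorem n163 : Sound.{u} (cM2r 1 0) s163 0 :=
  (x163.k4 c163_0 :)
theorem x128 : AuxS.{u} (cM2r 1 0) s128 0 a128 := aux_base3 tw50 rfl b128
theorem x128_1 : AuxS.{u} (cM2r 1 0) s128 0 a128_1 := x128
theorem x128_2 : AuxS.{u} (cM2r 1 0) s128 0 a128_2 := x128_1
theorem x128_3 : AuxS.{u} (cM2r 1 0) s128 0 a128_3 := x128_2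
theorem n128 : Sound.{u} (cM2r 1 0) s128 0 :=
  (x128_3.fr GamS.nil (AllS.cons n132 (AllS.cons n133 (AllS.cons n134 (AllS.cons n135 (AllS.cons n136 (AllS.cons n137 (AllS.cons n138 (AllS.cons n139 (AllS.cons n140 (AllS.cons n141 (AllS.cons n142 (AllS.cons n143 (AllS.cons n144 (AllS.cons n145 (AllS.cons n146 (AllS.cons n147 (AllS.cons n148 (AllS.cons n149 (AllS.cons n150 (AllS.cons n151 (AllS.cons n152 (AllS.cons n153 (AllS.cons n154 (AllS.cons n155 (AllS.cons n156 (AllS.cons n157 (AllS.cons n158 (AllS.cons n159 (AllS.cons n160 (AllS.cons n161 (AllS.cons n162 (AllS.cons n163 AllS.nil)))))))))))))))))))))))))))))))) c128_0 :)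
theorem x164 : AuxS.{u} (cM2r 1 0) s164 0 a164 := aux_base3 tw50 rfl b164
theorem x164_1 : AuxS.{u} (cM2r 1 0) s164 0 a164_1 := (AuxS.up x164 c164_9 :)
theorem x164_2 : AuxS.{u} (cM2r 1 0) s164 0 a164_2 := (AuxS.up x164_1 c164_10 :)
theorem x164_3 : AuxS.{u} (cM2r 1 0) s164 0 a164_3 := (AuxS.up2 x164_2 c164_11 :)
theorem x164_L1_1 : AuxS.{u} (cM2r 1 0) s164 (1 + 2) a164_L1_1 := (AuxS.hp (x164_3.lam 1) c164_2 :)
theorem x164_L257_1 : AuxS.{u} (cM2r 1 0) s164 (257 + 2) a164_L257_1 := (AuxS.hp (x164_3.lam 257) c164_5 :)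
theorem n164 : Sound.{u} (cM2r 1 0) s164 0 :=
  (x164_3.spl c164_0 (AllM.cons ((x164_3.lam 0).tp c164_1 :) (AllM.cons (x164_L1_1.tp c164_3 :) (AllM.cons ((x164_3.lam 5).e8 c164_4 :) (AllM.cons (x164_L257_1.tp c164_6 :) (AllM.cons ((x164_3.lam 261).e8 c164_7 :) AllM.nil))))) ((x164_3.weaken 1).ext2 (fun _ => rfl) GamS.nil AllS.nil c164_8 (Phs.fin (ct := ct164_8) rfl) (Phs.fin (ct := ct164_8) rfl)) :)
theorem x165 : AuxS.{u} (cM2r 1 0) s165 0 a165 := aux_base3 tw50 rfl b165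
theorem n165 : Sound.{u} (cM2r 1 0) s165 0 :=
  (x165.k4 c165_0 :)
theorem x166 : AuxS.{u} (cM2r 1 0) s166 0 a166 := aux_base3 tw50 rfl b166
theorem n166 : Sound.{u} (cM2r 1 0) s166 0 :=
  (x166.k4 c166_0 :)
theorem x167 : AuxS.{u} (cM2r 1 0) s167 0 a167 := aux_base3 tw50 rfl b167
theorem n167 : Sound.{u} (cM2r 1 0) s167 0 :=
  (x167.k4 c167_0 :)
theorem x168 : AuxS.{u} (cM2r 1 0) s168 0 a168 := aux_base3 tw50 rfl b168
theorem n168 : Sound.{u} (cM2r 1 0) s168 0 :=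
  (x168.k4 c168_0 :)
theorem x169 : AuxS.{u} (cM2r 1 0) s169 0 a169 := aux_base3 tw50 rfl b169
theorem n169 : Sound.{u} (cM2r 1 0) s169 0 :=
  (x169.k4 c169_0 :)
theorem x170 : AuxS.{u} (cM2r 1 0) s170 0 a170 := aux_base3 tw50 rfl b170
theorem n170 : Sound.{u} (cM2r 1 0) s170 0 :=
  (x170.k4 c170_0 :)
theorem x171 : AuxS.{u} (cM2r 1 0) s171 0 a171 := aux_base3 tw50 rfl b171
theorem n171 : Sound.{u} (cM2r 1 0) s171 0 :=
  (x171.k4 c171_0 :)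
theorem x172 : AuxS.{u} (cM2r 1 0) s172 0 a172 := aux_base3 tw50 rfl b172
theorem n172 : Sound.{u} (cM2r 1 0) s172 0 :=
  (x172.k4 c172_0 :)
theorem x173 : AuxS.{u} (cM2r 1 0) s173 0 a173 := aux_base3 tw50 rfl b173
theorem n173 : Sound.{u} (cM2r 1 0) s173 0 :=
  (x173.k4 c173_0 :)
theorem x174 : AuxS.{u} (cM2r 1 0) s174 0 a174 := aux_base3 tw50 rfl b174
theorem n174 : Sound.{u} (cM2r 1 0) s174 0 :=
  (x174.k4 c174_0 :)
theorem x175 : AuxS.{u} (cM2r 1 0) s175 0 a175 := aux_base3 tw50 rfl b175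
theorem n175 : Sound.{u} (cM2r 1 0) s175 0 :=
  (x175.k4 c175_0 :)
theorem x176 : AuxS.{u} (cM2r 1 0) s176 0 a176 := aux_base3 tw50 rfl b176
theorem n176 : Sound.{u} (cM2r 1 0) s176 0 :=
  (x176.k4 c176_0 :)
theorem x177 : AuxS.{u} (cM2r 1 0) s177 0 a177 := aux_base3 tw50 rfl b177
theorem x177_1 : AuxS.{u} (cM2r 1 0) s177 0 a177_1 := x177
theorem x177_2 : AuxS.{u} (cM2r 1 0) s177 0 a177_2 := x177_1
theorem x177_3 : AuxS.{u} (cM2r 1 0) s177 0 a177_3 := x177_2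
theorem n177 : Sound.{u} (cM2r 1 0) s177 0 :=
  (x177_3.jump c177_0 c177_1 n164 :)
theorem x178 : AuxS.{u} (cM2r 1 0) s178 0 a178 := aux_base3 tw50 rfl b178
theorem n178 : Sound.{u} (cM2r 1 0) s178 0 :=
  (x178.k4 c178_0 :)
theorem x179 : AuxS.{u} (cM2r 1 0) s179 0 a179 := aux_base3 tw50 rfl b179
theorem n179 : Sound.{u} (cM2r 1 0) s179 0 :=
  (x179.k4 c179_0 :)
theorem x180 : AuxS.{u} (cM2r 1 0) s180 0 a180 := aux_base3 tw50 rfl b180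
theorem x180_1 : AuxS.{u} (cM2r 1 0) s180 0 a180_1 := x180
theorem x180_2 : AuxS.{u} (cM2r 1 0) s180 0 a180_2 := x180_1
theorem x180_3 : AuxS.{u} (cM2r 1 0) s180 0 a180_3 := x180_2
theorem n180 : Sound.{u} (cM2r 1 0) s180 0 :=
  (x180_3.jump c180_0 c180_1 n164 :)
theorem x181 : AuxS.{u} (cM2r 1 0) s181 0 a181 := aux_base3 tw50 rfl b181
theorem n181 : Sound.{u} (cM2r 1 0) s181 0 :=
  (x181.k4 c181_0 :)
theorem x182 : AuxS.{u} (cM2r 1 0) s182 0 a182 := aux_base3 tw50 rfl b182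
theorem n182 : Sound.{u} (cM2r 1 0) s182 0 :=
  (x182.k4 c182_0 :)
theorem x183 : AuxS.{u} (cM2r 1 0) s183 0 a183 := aux_base3 tw50 rfl b183
theorem n183 : Sound.{u} (cM2r 1 0) s183 0 :=
  (x183.k4 c183_0 :)
theorem x184 : AuxS.{u} (cM2r 1 0) s184 0 a184 := aux_base3 tw50 rfl b184
theorem n184 : Sound.{u} (cM2r 1 0) s184 0 :=
  (x184.k4 c184_0 :)
theorem x185 : AuxS.{u} (cM2r 1 0) s185 0 a185 := aux_base3 tw50 rfl b185
theorem n185 : Sound.{u} (cM2r 1 0) s185 0 :=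
  (x185.k4 c185_0 :)
theorem x186 : AuxS.{u} (cM2r 1 0) s186 0 a186 := aux_base3 tw50 rfl b186
theorem n186 : Sound.{u} (cM2r 1 0) s186 0 :=
  (x186.k4 c186_0 :)
theorem x187 : AuxS.{u} (cM2r 1 0) s187 0 a187 := aux_base3 tw50 rfl b187
theorem n187 : Sound.{u} (cM2r 1 0) s187 0 :=
  (x187.k4 c187_0 :)
theorem x188 : AuxS.{u} (cM2r 1 0) s188 0 a188 := aux_base3 tw50 rfl b188
theorem n188 : Sound.{u} (cM2r 1 0) s188 0 :=
  (x188.k4 c188_0 :)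
theorem x189 : AuxS.{u} (cM2r 1 0) s189 0 a189 := aux_base3 tw50 rfl b189
theorem n189 : Sound.{u} (cM2r 1 0) s189 0 :=
  (x189.k4 c189_0 :)
theorem x190 : AuxS.{u} (cM2r 1 0) s190 0 a190 := aux_base3 tw50 rfl b190
theorem n190 : Sound.{u} (cM2r 1 0) s190 0 :=
  (x190.k4 c190_0 :)
theorem x191 : AuxS.{u} (cM2r 1 0) s191 0 a191 := aux_base3 tw50 rfl b191
theorem n191 : Sound.{u} (cM2r 1 0) s191 0 :=
  (x191.k4 c191_0 :)
theorem x192 : AuxS.{u} (cM2r 1 0) s192 0 a192 := aux_base3 tw50 rfl b192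
theorem n192 : Sound.{u} (cM2r 1 0) s192 0 :=
  (x192.k4 c192_0 :)
theorem x193 : AuxS.{u} (cM2r 1 0) s193 0 a193 := aux_base3 tw50 rfl b193
theorem x193_1 : AuxS.{u} (cM2r 1 0) s193 0 a193_1 := x193
theorem x193_2 : AuxS.{u} (cM2r 1 0) s193 0 a193_2 := x193_1
theorem x193_3 : AuxS.{u} (cM2r 1 0) s193 0 a193_3 := x193_2
theorem n193 : Sound.{u} (cM2r 1 0) s193 0 :=
  (x193_3.jump c193_0 c193_1 n164 :)
theorem x194 : AuxS.{u} (cM2r 1 0) s194 0 a194 := aux_base3 tw50 rfl b194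
theorem n194 : Sound.{u} (cM2r 1 0) s194 0 :=
  (x194.k4 c194_0 :)
theorem x195 : AuxS.{u} (cM2r 1 0) s195 0 a195 := aux_base3 tw50 rfl b195
theorem n195 : Sound.{u} (cM2r 1 0) s195 0 :=
  (x195.k4 c195_0 :)
theorem x129 : AuxS.{u} (cM2r 1 0) s129 0 a129 := aux_base3 tw50 rfl b129
theorem x129_1 : AuxS.{u} (cM2r 1 0) s129 0 a129_1 := x129
theorem x129_2 : AuxS.{u} (cM2r 1 0) s129 0 a129_2 := x129_1
theorem x129_3 : AuxS.{u} (cM2r 1 0) s129 0 a129_3 := x129_2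
theorem n129 : Sound.{u} (cM2r 1 0) s129 0 :=
  (x129_3.fr GamS.nil (AllS.cons n164 (AllS.cons n165 (AllS.cons n166 (AllS.cons n167 (AllS.cons n168 (AllS.cons n169 (AllS.cons n170 (AllS.cons n171 (AllS.cons n172 (AllS.cons n173 (AllS.cons n174 (AllS.cons n175 (AllS.cons n176 (AllS.cons n177 (AllS.cons n178 (AllS.cons n179 (AllS.cons n180 (AllS.cons n181 (AllS.cons n182 (AllS.cons n183 (AllS.cons n184 (AllS.cons n185 (AllS.cons n186 (AllS.cons n187 (AllS.cons n188 (AllS.cons n189 (AllS.cons n190 (AllS.cons n191 (AllS.cons n192 (AllS.cons n193 (AllS.cons n194 (AllS.cons n195 AllS.nil)))))))))))))))))))))))))))))))) c129_0 :)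
theorem x130 : AuxS.{u} (cM2r 1 0) s130 0 a130 := aux_base3 tw50 rfl b130
theorem x130_1 : AuxS.{u} (cM2r 1 0) s130 0 a130_1 := x130
theorem x130_2 : AuxS.{u} (cM2r 1 0) s130 0 a130_2 := x130_1
theorem x130_3 : AuxS.{u} (cM2r 1 0) s130 0 a130_3 := x130_2
theorem n130 : Sound.{u} (cM2r 1 0) s130 0 :=
  (x130_3.jump c130_0 c130_1 n128 :)
theorem x131 : AuxS.{u} (cM2r 1 0) s131 0 a131 := aux_base3 tw50 rfl b131
theorem x131_1 : AuxS.{u} (cM2r 1 0) s131 0 a131_1 := x131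
theorem x131_2 : AuxS.{u} (cM2r 1 0) s131 0 a131_2 := x131_1
theorem x131_3 : AuxS.{u} (cM2r 1 0) s131 0 a131_3 := x131_2
theorem n131 : Sound.{u} (cM2r 1 0) s131 0 :=
  (x131_3.jump c131_0 c131_1 n129 :)
theorem x127 : AuxS.{u} (cM2r 1 0) s127 0 a127 := aux_base3 tw50 rfl b127
theorem x127_1 : AuxS.{u} (cM2r 1 0) s127 0 a127_1 := x127
theorem x127_2 : AuxS.{u} (cM2r 1 0) s127 0 a127_2 := x127_1
theorem x127_3 : AuxS.{u} (cM2r 1 0) s127 0 a127_3 := x127_2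
theorem n127 : Sound.{u} (cM2r 1 0) s127 0 :=
  (x127_3.rho (AllS.cons n128 (AllS.cons n129 (AllS.cons n130 (AllS.cons n131 AllS.nil)))) c127_0 :)
theorem x31 : AuxS.{u} (cM2r 1 0) s31 0 a31 := aux_base3 tw22 rfl b31
theorem x31_1 : AuxS.{u} (cM2r 1 0) s31 0 a31_1 := x31
theorem x31_2 : AuxS.{u} (cM2r 1 0) s31 0 a31_2 := x31_1
theorem x31_3 : AuxS.{u} (cM2r 1 0) s31 0 a31_3 := x31_2
theorem n31 : Sound.{u} (cM2r 1 0) s31 0 :=
  (x31_3.fr2 (AuxS.gam x31_3 c31_0) (AllS.cons n127 AllS.nil) c31_1 :)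
theorem x32 : AuxS.{u} (cM2r 1 0) s32 0 a32 := aux_base3 tw23 rfl b32
theorem x32_1 : AuxS.{u} (cM2r 1 0) s32 0 a32_1 := x32
theorem x32_2 : AuxS.{u} (cM2r 1 0) s32 0 a32_2 := x32_1
theorem n32 : Sound.{u} (cM2r 1 0) s32 0 :=
  (x32_2.fr2 GamS.nil AllS.nil c32_0 :)
theorem x33 : AuxS.{u} (cM2r 1 0) s33 0 a33 := aux_base3 tw24 rfl b33
theorem x33_1 : AuxS.{u} (cM2r 1 0) s33 0 a33_1 := x33
theorem x33_2 : AuxS.{u} (cM2r 1 0) s33 0 a33_2 := x33_1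
theorem n33 : Sound.{u} (cM2r 1 0) s33 0 :=
  (x33_2.fr2 GamS.nil AllS.nil c33_0 :)
theorem x34 : AuxS.{u} (cM2r 1 0) s34 0 a34 := aux_base3 tw25 rfl b34
theorem x34_1 : AuxS.{u} (cM2r 1 0) s34 0 a34_1 := x34
theorem x34_2 : AuxS.{u} (cM2r 1 0) s34 0 a34_2 := x34_1
theorem n34 : Sound.{u} (cM2r 1 0) s34 0 :=
  (x34_2.fr2 GamS.nil AllS.nil c34_0 :)
theorem x35 : AuxS.{u} (cM2r 1 0) s35 0 a35 := aux_base3 tw26 rfl b35
theorem x35_1 : AuxS.{u} (cM2r 1 0) s35 0 a35_1 := x35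
theorem x35_2 : AuxS.{u} (cM2r 1 0) s35 0 a35_2 := x35_1
theorem n35 : Sound.{u} (cM2r 1 0) s35 0 :=
  (x35_2.fr2 GamS.nil AllS.nil c35_0 :)
theorem x36 : AuxS.{u} (cM2r 1 0) s36 0 a36 := aux_base3 tw27 rfl b36
theorem x36_1 : AuxS.{u} (cM2r 1 0) s36 0 a36_1 := x36
theorem x36_2 : AuxS.{u} (cM2r 1 0) s36 0 a36_2 := x36_1
theorem x36_3 : AuxS.{u} (cM2r 1 0) s36 0 a36_3 := x36_2
theorem n36 : Sound.{u} (cM2r 1 0) s36 0 :=
  (x36_3.fr2 GamS.nil AllS.nil c36_0 :)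
theorem x37 : AuxS.{u} (cM2r 1 0) s37 0 a37 := aux_base3 tw28 rfl b37
theorem x37_1 : AuxS.{u} (cM2r 1 0) s37 0 a37_1 := x37
theorem x37_2 : AuxS.{u} (cM2r 1 0) s37 0 a37_2 := x37_1
theorem n37 : Sound.{u} (cM2r 1 0) s37 0 :=
  (x37_2.fr2 GamS.nil AllS.nil c37_0 :)
theorem x38 : AuxS.{u} (cM2r 1 0) s38 0 a38 := aux_base3 tw29 rfl b38
theorem x38_1 : AuxS.{u} (cM2r 1 0) s38 0 a38_1 := x38
theorem x38_2 : AuxS.{u} (cM2r 1 0) s38 0 a38_2 := x38_1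
theorem n38 : Sound.{u} (cM2r 1 0) s38 0 :=
  (x38_2.fr2 GamS.nil AllS.nil c38_0 :)
theorem x39 : AuxS.{u} (cM2r 1 0) s39 0 a39 := aux_base3 tw30 rfl b39
theorem x39_1 : AuxS.{u} (cM2r 1 0) s39 0 a39_1 := x39
theorem x39_2 : AuxS.{u} (cM2r 1 0) s39 0 a39_2 := x39_1
theorem n39 : Sound.{u} (cM2r 1 0) s39 0 :=
  (x39_2.fr2 GamS.nil AllS.nil c39_0 :)
theorem x40 : AuxS.{u} (cM2r 1 0) s40 0 a40 := aux_base3 tw31 rfl b40
theorem x40_1 : AuxS.{u} (cM2r 1 0) s40 0 a40_1 := x40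
theorem x40_2 : AuxS.{u} (cM2r 1 0) s40 0 a40_2 := x40_1
theorem n40 : Sound.{u} (cM2r 1 0) s40 0 :=
  (x40_2.fr2 GamS.nil AllS.nil c40_0 :)
theorem x41 : AuxS.{u} (cM2r 1 0) s41 0 a41 := aux_base3 tw32 rfl b41
theorem x41_1 : AuxS.{u} (cM2r 1 0) s41 0 a41_1 := x41
theorem x41_2 : AuxS.{u} (cM2r 1 0) s41 0 a41_2 := x41_1
theorem x41_3 : AuxS.{u} (cM2r 1 0) s41 0 a41_3 := x41_2
theorem n41 : Sound.{u} (cM2r 1 0) s41 0 :=
  (x41_3.fr2 GamS.nil AllS.nil c41_0 :)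
theorem x18 : AuxS.{u} (cM2r 1 0) s18 0 a18 := aux_base3 tw7 rfl b18
theorem x18_1 : AuxS.{u} (cM2r 1 0) s18 0 a18_1 := x18
theorem x18_2 : AuxS.{u} (cM2r 1 0) s18 0 a18_2 := x18_1
theorem x18_3 : AuxS.{u} (cM2r 1 0) s18 0 a18_3 := x18_2
theorem x18_4 : AuxS.{u} (cM2r 1 0) s18 0 a18_4 := x18_3
theorem n18 : Sound.{u} (cM2r 1 0) s18 0 :=
  (x18_4.fr2 GamS.nil (AllS.cons n26 (AllS.cons n27 (AllS.cons n28 (AllS.cons n29 (AllS.cons n30 (AllS.cons n31 (AllS.cons n32 (AllS.cons n33 (AllS.cons n34 (AllS.cons n35 (AllS.cons n36 (AllS.cons n37 (AllS.cons n38 (AllS.cons n39 (AllS.cons n40 (AllS.cons n41 AllS.nil)))))))))))))))) c18_0 :)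
theorem x19 : AuxS.{u} (cM2r 1 0) s19 0 a19 := aux_base3 tw7 rfl b19
theorem n19 : Sound.{u} (cM2r 1 0) s19 0 :=
  (x19.k4 c19_0 :)
theorem x20 : AuxS.{u} (cM2r 1 0) s20 0 a20 := aux_base3 tw7 rfl b20
theorem n20 : Sound.{u} (cM2r 1 0) s20 0 :=
  (x20.k4 c20_0 :)
theorem x21 : AuxS.{u} (cM2r 1 0) s21 0 a21 := aux_base3 tw7 rfl b21
theorem n21 : Sound.{u} (cM2r 1 0) s21 0 :=
  (x21.k4 c21_0 :)
theorem x22 : AuxS.{u} (cM2r 1 0) s22 0 a22 := aux_base3 tw7 rfl b22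
theorem n22 : Sound.{u} (cM2r 1 0) s22 0 :=
  (x22.k4 c22_0 :)
theorem x23 : AuxS.{u} (cM2r 1 0) s23 0 a23 := aux_base3 tw7 rfl b23
theorem n23 : Sound.{u} (cM2r 1 0) s23 0 :=
  (x23.k4 c23_0 :)
theorem x24 : AuxS.{u} (cM2r 1 0) s24 0 a24 := aux_base3 tw7 rfl b24
theorem n24 : Sound.{u} (cM2r 1 0) s24 0 :=
  (x24.k4 c24_0 :)
theorem x25 : AuxS.{u} (cM2r 1 0) s25 0 a25 := aux_base3 tw7 rfl b25
theorem n25 : Sound.{u} (cM2r 1 0) s25 0 :=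
  (x25.k4 c25_0 :)
theorem x8 : AuxS.{u} (cM2r 1 0) s8 0 a8 := aux_base3 tw7 rfl b8
theorem x8_1 : AuxS.{u} (cM2r 1 0) s8 0 a8_1 := x8
theorem x8_2 : AuxS.{u} (cM2r 1 0) s8 0 a8_2 := x8_1
theorem n8 : Sound.{u} (cM2r 1 0) s8 0 :=
  (x8_2.fr (AuxS.gam x8_2 c8_0) (AllS.cons n18 (AllS.cons n19 (AllS.cons n20 (AllS.cons n21 (AllS.cons n22 (AllS.cons n23 (AllS.cons n24 (AllS.cons n25 AllS.nil)))))))) c8_1 :)
theorem x9 : AuxS.{u} (cM2r 1 0) s9 0 a9 := aux_base3 tw8 rfl b9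
theorem x9_1 : AuxS.{u} (cM2r 1 0) s9 0 a9_1 := x9
theorem x9_2 : AuxS.{u} (cM2r 1 0) s9 0 a9_2 := x9_1
theorem n9 : Sound.{u} (cM2r 1 0) s9 0 :=
  (x9_2.fr GamS.nil AllS.nil c9_0 :)
theorem x10 : AuxS.{u} (cM2r 1 0) s10 0 a10 := aux_base3 tw9 rfl b10
theorem x10_1 : AuxS.{u} (cM2r 1 0) s10 0 a10_1 := x10
theorem x10_2 : AuxS.{u} (cM2r 1 0) s10 0 a10_2 := x10_1
theorem n10 : Sound.{u} (cM2r 1 0) s10 0 :=
  (x10_2.fr GamS.nil AllS.nil c10_0 :)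
theorem x11 : AuxS.{u} (cM2r 1 0) s11 0 a11 := aux_base3 tw10 rfl b11
theorem x11_1 : AuxS.{u} (cM2r 1 0) s11 0 a11_1 := x11
theorem x11_2 : AuxS.{u} (cM2r 1 0) s11 0 a11_2 := x11_1
theorem n11 : Sound.{u} (cM2r 1 0) s11 0 :=
  (x11_2.fr GamS.nil AllS.nil c11_0 :)
theorem x196 : AuxS.{u} (cM2r 1 0) s196 0 a196 := aux_base3 tw11 rfl b196
theorem n196 : Sound.{u} (cM2r 1 0) s196 0 :=
  (x196.k4 c196_0 :)
theorem x206 : AuxS.{u} (cM2r 1 0) s206 0 a206 := aux_base3 tw53 rfl b206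
theorem n206 : Sound.{u} (cM2r 1 0) s206 0 :=
  (x206.k4 c206_0 :)
theorem x207 : AuxS.{u} (cM2r 1 0) s207 0 a207 := aux_base3 tw54 rfl b207
theorem n207 : Sound.{u} (cM2r 1 0) s207 0 :=
  (x207.k4 c207_0 :)
theorem x208 : AuxS.{u} (cM2r 1 0) s208 0 a208 := aux_base3 tw55 rfl b208
theorem n208 : Sound.{u} (cM2r 1 0) s208 0 :=
  (x208.k4 c208_0 :)
theorem x209 : AuxS.{u} (cM2r 1 0) s209 0 a209 := aux_base3 tw56 rfl b209
theorem n209 : Sound.{u} (cM2r 1 0) s209 0 :=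
  (x209.k4 c209_0 :)
theorem x220 : AuxS.{u} (cM2r 1 0) s220 0 a220 := aux_base3 tw57 rfl b220
theorem n220 : Sound.{u} (cM2r 1 0) s220 0 :=
  (x220.k4 c220_0 :)
theorem x221 : AuxS.{u} (cM2r 1 0) s221 0 a221 := aux_base3 tw57 rfl b221
theorem n221 : Sound.{u} (cM2r 1 0) s221 0 :=
  (x221.k4 c221_0 :)
theorem x222 : AuxS.{u} (cM2r 1 0) s222 0 a222 := aux_base3 tw57 rfl b222
theorem n222 : Sound.{u} (cM2r 1 0) s222 0 :=
  (x222.k4 c222_0 :)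
theorem x223 : AuxS.{u} (cM2r 1 0) s223 0 a223 := aux_base3 tw57 rfl b223
theorem x223_1 : AuxS.{u} (cM2r 1 0) s223 0 a223_1 := (AuxS.up x223 c223_13 :)
theorem x223_2 : AuxS.{u} (cM2r 1 0) s223 0 a223_2 := (AuxS.up x223_1 c223_14 :)
theorem x223_3 : AuxS.{u} (cM2r 1 0) s223 0 a223_3 := (AuxS.up x223_2 c223_15 :)
theorem x223_L161_1 : AuxS.{u} (cM2r 1 0) s223 (161 + 2) a223_L161_1 := (AuxS.hp (x223_3.lam 161) c223_3 :)
theorem p223_5_1 : Phs s223 a223_3 [] [] ct223_5 v223_5 5 w223_5_1 := (Phs.fin c223_5)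
theorem p223_5_3 : Phs s223 a223_3 [] [] ct223_5 v223_5 4 w223_5_3 := (Phs.stp c223_6 p223_5_1)
theorem p223_5_5 : Phs s223 a223_3 [] [] ct223_5 v223_5 2 w223_5_5 := (Phs.stp c223_7 p223_5_3)
theorem p223_5_7 : Phs s223 a223_3 [] [] ct223_5 v223_5 1 w223_5_7 := (Phs.stp c223_8 p223_5_5)
theorem p223_5_10 : Phs s223 a223_3 [] [] ct223_5 v223_5 5 w223_5_10 := (Phs.fin c223_10)
theorem n223 : Sound.{u} (cM2r 1 0) s223 0 :=
  (x223_3.spl c223_0 (AllM.cons ((x223_3.lam 0).tp c223_1 :) (AllM.cons ((x223_3.lam 37).e8 c223_2 :) (AllM.cons (x223_L161_1.tp c223_4 :) AllM.nil))) ((x223_3.weaken 1).ext2 (fun _ => rfl) GamS.nil AllS.nil c223_12 (Phs.stp c223_9 p223_5_7) (Phs.stp c223_11 p223_5_10)) :)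
theorem x210 : AuxS.{u} (cM2r 1 0) s210 0 a210 := aux_base3 tw57 rfl b210
theorem x210_1 : AuxS.{u} (cM2r 1 0) s210 0 a210_1 := x210
theorem x210_2 : AuxS.{u} (cM2r 1 0) s210 0 a210_2 := x210_1
theorem n210 : Sound.{u} (cM2r 1 0) s210 0 :=
  (x210_2.fr (AuxS.gam x210_2 c210_0) (AllS.cons n220 (AllS.cons n221 (AllS.cons n222 (AllS.cons n223 AllS.nil)))) c210_1 :)
theorem x211 : AuxS.{u} (cM2r 1 0) s211 0 a211 := aux_base3 tw58 rfl b211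
theorem x211_1 : AuxS.{u} (cM2r 1 0) s211 0 a211_1 := x211
theorem x211_2 : AuxS.{u} (cM2r 1 0) s211 0 a211_2 := x211_1
theorem n211 : Sound.{u} (cM2r 1 0) s211 0 :=
  (x211_2.fr GamS.nil AllS.nil c211_0 :)
theorem x224 : AuxS.{u} (cM2r 1 0) s224 0 a224 := aux_base3 tw59 rfl b224
theorem n224 : Sound.{u} (cM2r 1 0) s224 0 :=
  (x224.k4 c224_0 :)
theorem x225 : AuxS.{u} (cM2r 1 0) s225 0 a225 := aux_base3 tw59 rfl b225
theorem n225 : Sound.{u} (cM2r 1 0) s225 0 :=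
  (x225.k4 c225_0 :)
theorem x226 : AuxS.{u} (cM2r 1 0) s226 0 a226 := aux_base3 tw59 rfl b226
theorem x226_1 : AuxS.{u} (cM2r 1 0) s226 0 a226_1 := (AuxS.up x226 c226_13 :)
theorem x226_2 : AuxS.{u} (cM2r 1 0) s226 0 a226_2 := (AuxS.up x226_1 c226_14 :)
theorem x226_3 : AuxS.{u} (cM2r 1 0) s226 0 a226_3 := (AuxS.up x226_2 c226_15 :)
theorem x226_L161_1 : AuxS.{u} (cM2r 1 0) s226 (161 + 2) a226_L161_1 := (AuxS.hp (x226_3.lam 161) c226_2 :)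
theorem p226_5_1 : Phs s226 a226_3 [] [] ct226_5 v226_5 5 w226_5_1 := (Phs.fin c226_5)
theorem p226_5_3 : Phs s226 a226_3 [] [] ct226_5 v226_5 4 w226_5_3 := (Phs.stp c226_6 p226_5_1)
theorem p226_5_5 : Phs s226 a226_3 [] [] ct226_5 v226_5 2 w226_5_5 := (Phs.stp c226_7 p226_5_3)
theorem p226_5_7 : Phs s226 a226_3 [] [] ct226_5 v226_5 1 w226_5_7 := (Phs.stp c226_8 p226_5_5)
theorem p226_5_10 : Phs s226 a226_3 [] [] ct226_5 v226_5 5 w226_5_10 := (Phs.fin c226_10)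
theorem n226 : Sound.{u} (cM2r 1 0) s226 0 :=
  (x226_3.spl c226_0 (AllM.cons ((x226_3.lam 0).tp c226_1 :) (AllM.cons (x226_L161_1.tp c226_3 :) (AllM.cons ((x226_3.lam 165).e8 c226_4 :) AllM.nil))) ((x226_3.weaken 1).ext2 (fun _ => rfl) GamS.nil AllS.nil c226_12 (Phs.stp c226_9 p226_5_7) (Phs.stp c226_11 p226_5_10)) :)
theorem x227 : AuxS.{u} (cM2r 1 0) s227 0 a227 := aux_base3 tw59 rfl b227
theorem n227 : Sound.{u} (cM2r 1 0) s227 0 :=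
  (x227.k4 c227_0 :)
theorem x212 : AuxS.{u} (cM2r 1 0) s212 0 a212 := aux_base3 tw59 rfl b212
theorem x212_1 : AuxS.{u} (cM2r 1 0) s212 0 a212_1 := x212
theorem x212_2 : AuxS.{u} (cM2r 1 0) s212 0 a212_2 := x212_1
theorem n212 : Sound.{u} (cM2r 1 0) s212 0 :=
  (x212_2.fr (AuxS.gam x212_2 c212_0) (AllS.cons n224 (AllS.cons n225 (AllS.cons n226 (AllS.cons n227 AllS.nil)))) c212_1 :)
theorem x213 : AuxS.{u} (cM2r 1 0) s213 0 a213 := aux_base3 tw60 rfl b213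
theorem x213_1 : AuxS.{u} (cM2r 1 0) s213 0 a213_1 := x213
theorem x213_2 : AuxS.{u} (cM2r 1 0) s213 0 a213_2 := x213_1
theorem n213 : Sound.{u} (cM2r 1 0) s213 0 :=
  (x213_2.fr GamS.nil AllS.nil c213_0 :)
theorem x214 : AuxS.{u} (cM2r 1 0) s214 0 a214 := aux_base3 tw61 rfl b214
theorem n214 : Sound.{u} (cM2r 1 0) s214 0 :=
  (x214.k3 c214_0 :)
theorem x215 : AuxS.{u} (cM2r 1 0) s215 0 a215 := aux_base3 tw62 rfl b215
theorem n215 : Sound.{u} (cM2r 1 0) s215 0 :=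
  (x215.k3 c215_0 :)
theorem x216 : AuxS.{u} (cM2r 1 0) s216 0 a216 := aux_base3 tw63 rfl b216
theorem n216 : Sound.{u} (cM2r 1 0) s216 0 :=
  (x216.k3 c216_0 :)
theorem x217 : AuxS.{u} (cM2r 1 0) s217 0 a217 := aux_base3 tw64 rfl b217
theorem n217 : Sound.{u} (cM2r 1 0) s217 0 :=
  (x217.k3 c217_0 :)
theorem x218 : AuxS.{u} (cM2r 1 0) s218 0 a218 := aux_base3 tw65 rfl b218
theorem n218 : Sound.{u} (cM2r 1 0) s218 0 :=
  (x218.k3 c218_0 :)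
theorem x219 : AuxS.{u} (cM2r 1 0) s219 0 a219 := aux_base3 tw66 rfl b219
theorem n219 : Sound.{u} (cM2r 1 0) s219 0 :=
  (x219.k3 c219_0 :)
theorem x204 : AuxS.{u} (cM2r 1 0) s204 0 a204 := aux_base3 tw51 rfl b204
theorem x204_1 : AuxS.{u} (cM2r 1 0) s204 0 a204_1 := (AuxS.up x204 c204_18 :)
theorem x204_2p : AuxS.{u} (cM2r 1 0) s204 0 a204_2p := (AuxS.up x204_1 c204_19 :)
theorem x204_2 : AuxS.{u} (cM2r 1 0) s204 0 a204_2 := (AuxS.up2 x204_2p c204_20 :)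
theorem x204_L33_1 : AuxS.{u} (cM2r 1 0) s204 (33 + 2) a204_L33_1 := (AuxS.hp (x204_2.lam 33) c204_2 :)
theorem x204_L33_2 : AuxS.{u} (cM2r 1 0) s204 (33 + 2) a204_L33_2 := (AuxS.ne x204_L33_1 c204_3 :)
theorem x204_L161_1 : AuxS.{u} (cM2r 1 0) s204 (161 + 2) a204_L161_1 := (AuxS.hp (x204_2.lam 161) c204_6 :)
theorem p204_9_1 : Phs s204 a204_2 [] [s206, s207, s208, s209, s210, s211, s212, s213, s214, s215, s216, s217, s218, s219] ct204_9 v204_9 5 w204_9_1 := (Phs.fin c204_9)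
theorem p204_9_3 : Phs s204 a204_2 [] [s206, s207, s208, s209, s210, s211, s212, s213, s214, s215, s216, s217, s218, s219] ct204_9 v204_9 4 w204_9_3 := (Phs.stp c204_10 p204_9_1)
theorem p204_9_6 : Phs s204 a204_2 [] [s206, s207, s208, s209, s210, s211, s212, s213, s214, s215, s216, s217, s218, s219] ct204_9 v204_9 2 w204_9_6 := (Phs.app (Phs.stp c204_11 p204_9_3) (Phs.stp c204_12 p204_9_3))
theorem p204_9_8 : Phs s204 a204_2 [] [s206, s207, s208, s209, s210, s211, s212, s213, s214, s215, s216, s217, s218, s219] ct204_9 v204_9 1 w204_9_8 := (Phs.stp c204_13 p204_9_6)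
theorem p204_9_11 : Phs s204 a204_2 [] [s206, s207, s208, s209, s210, s211, s212, s213, s214, s215, s216, s217, s218, s219] ct204_9 v204_9 5 w204_9_11 := (Phs.fin c204_15)
theorem n204 : Sound.{u} (cM2r 1 0) s204 0 :=
  (x204_2.spl c204_0 (AllM.cons ((x204_2.lam 0).tp c204_1 :) (AllM.cons (x204_L33_2.tp c204_4 :) (AllM.cons ((x204_2.lam 37).e8 c204_5 :) (AllM.cons (x204_L161_1.tp c204_7 :) (AllM.cons ((x204_2.lam 165).e8 c204_8 :) AllM.nil))))) ((x204_2.weaken 1).ext2 (fun _ => rfl) GamS.nil (AllS.cons n206 (AllS.cons n207 (AllS.cons n208 (AllS.cons n209 (AllS.cons n210 (AllS.cons n211 (AllS.cons n212 (AllS.cons n213 (AllS.cons n214 (AllS.cons n215 (AllS.cons n216 (AllS.cons n217 (AllS.cons n218 (AllS.cons n219 AllS.nil)))))))))))))) c204_17 (Phs.stp c204_14 p204_9_8) (Phs.stp c204_16 p204_9_11)) :)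
theorem x234 : AuxS.{u} (cM2r 1 0) s234 0 a234 := aux_base3 tw67 rfl b234
theorem n234 : Sound.{u} (cM2r 1 0) s234 0 :=
  (x234.k4 c234_0 :)
theorem x235 : AuxS.{u} (cM2r 1 0) s235 0 a235 := aux_base3 tw67 rfl b235
theorem x235_1 : AuxS.{u} (cM2r 1 0) s235 0 a235_1 := (AuxS.up x235 c235_13 :)
theorem x235_2 : AuxS.{u} (cM2r 1 0) s235 0 a235_2 := (AuxS.up x235_1 c235_14 :)
theorem x235_3 : AuxS.{u} (cM2r 1 0) s235 0 a235_3 := (AuxS.up x235_2 c235_15 :)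
theorem x235_4 : AuxS.{u} (cM2r 1 0) s235 0 a235_4 := (AuxS.up x235_3 c235_16 :)
theorem x235_L289_1 : AuxS.{u} (cM2r 1 0) s235 (289 + 2) a235_L289_1 := (AuxS.hp (x235_4.lam 289) c235_3 :)
theorem p235_5_1 : Phs s235 a235_4 [] [] ct235_5 v235_5 5 w235_5_1 := (Phs.fin c235_5)
theorem p235_5_3 : Phs s235 a235_4 [] [] ct235_5 v235_5 4 w235_5_3 := (Phs.stp c235_6 p235_5_1)
theorem p235_5_5 : Phs s235 a235_4 [] [] ct235_5 v235_5 2 w235_5_5 := (Phs.stp c235_7 p235_5_3)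
theorem p235_5_7 : Phs s235 a235_4 [] [] ct235_5 v235_5 1 w235_5_7 := (Phs.stp c235_8 p235_5_5)
theorem p235_5_10 : Phs s235 a235_4 [] [] ct235_5 v235_5 5 w235_5_10 := (Phs.fin c235_10)
theorem n235 : Sound.{u} (cM2r 1 0) s235 0 :=
  (x235_4.spl c235_0 (AllM.cons ((x235_4.lam 0).tp c235_1 :) (AllM.cons ((x235_4.lam 37).e8 c235_2 :) (AllM.cons (x235_L289_1.tp c235_4 :) AllM.nil))) ((x235_4.weaken 1).ext2 (fun _ => rfl) GamS.nil AllS.nil c235_12 (Phs.stp c235_9 p235_5_7) (Phs.stp c235_11 p235_5_10)) :)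
theorem x236 : AuxS.{u} (cM2r 1 0) s236 0 a236 := aux_base3 tw67 rfl b236
theorem n236 : Sound.{u} (cM2r 1 0) s236 0 :=
  (x236.k4 c236_0 :)
theorem x237 : AuxS.{u} (cM2r 1 0) s237 0 a237 := aux_base3 tw67 rfl b237
theorem n237 : Sound.{u} (cM2r 1 0) s237 0 :=
  (x237.k4 c237_0 :)
theorem x228 : AuxS.{u} (cM2r 1 0) s228 0 a228 := aux_base3 tw67 rfl b228
theorem x228_1 : AuxS.{u} (cM2r 1 0) s228 0 a228_1 := x228
theorem x228_2 : AuxS.{u} (cM2r 1 0) s228 0 a228_2 := x228_1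
theorem n228 : Sound.{u} (cM2r 1 0) s228 0 :=
  (x228_2.fr (AuxS.gam x228_2 c228_0) (AllS.cons n234 (AllS.cons n235 (AllS.cons n236 (AllS.cons n237 AllS.nil)))) c228_1 :)
theorem x229 : AuxS.{u} (cM2r 1 0) s229 0 a229 := aux_base3 tw68 rfl b229
theorem x229_1 : AuxS.{u} (cM2r 1 0) s229 0 a229_1 := x229
theorem x229_2 : AuxS.{u} (cM2r 1 0) s229 0 a229_2 := x229_1
theorem n229 : Sound.{u} (cM2r 1 0) s229 0 :=
  (x229_2.fr GamS.nil AllS.nil c229_0 :)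
theorem x230 : AuxS.{u} (cM2r 1 0) s230 0 a230 := aux_base3 tw69 rfl b230
theorem n230 : Sound.{u} (cM2r 1 0) s230 0 :=
  (x230.k3 c230_0 :)
theorem x231 : AuxS.{u} (cM2r 1 0) s231 0 a231 := aux_base3 tw70 rfl b231
theorem n231 : Sound.{u} (cM2r 1 0) s231 0 :=
  (x231.k3 c231_0 :)
theorem x232 : AuxS.{u} (cM2r 1 0) s232 0 a232 := aux_base3 tw71 rfl b232
theorem n232 : Sound.{u} (cM2r 1 0) s232 0 :=
  (x232.k3 c232_0 :)
theorem x233 : AuxS.{u} (cM2r 1 0) s233 0 a233 := aux_base3 tw72 rfl b233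
theorem n233 : Sound.{u} (cM2r 1 0) s233 0 :=
  (x233.k3 c233_0 :)
theorem x205 : AuxS.{u} (cM2r 1 0) s205 0 a205 := aux_base3 tw52 rfl b205
theorem x205_1 : AuxS.{u} (cM2r 1 0) s205 0 a205_1 := (AuxS.up x205 c205_18 :)
theorem x205_2p : AuxS.{u} (cM2r 1 0) s205 0 a205_2p := (AuxS.up x205_1 c205_19 :)
theorem x205_2 : AuxS.{u} (cM2r 1 0) s205 0 a205_2 := (AuxS.up2 x205_2p c205_20 :)
theorem x205_L33_1 : AuxS.{u} (cM2r 1 0) s205 (33 + 2) a205_L33_1 := (AuxS.hp (x205_2.lam 33) c205_2 :)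
theorem x205_L33_2 : AuxS.{u} (cM2r 1 0) s205 (33 + 2) a205_L33_2 := (AuxS.ne x205_L33_1 c205_3 :)
theorem x205_L161_1 : AuxS.{u} (cM2r 1 0) s205 (161 + 2) a205_L161_1 := (AuxS.hp (x205_2.lam 161) c205_6 :)
theorem p205_9_1 : Phs s205 a205_2 [] [s228, s229, s230, s231, s232, s233] ct205_9 v205_9 5 w205_9_1 := (Phs.fin c205_9)
theorem p205_9_3 : Phs s205 a205_2 [] [s228, s229, s230, s231, s232, s233] ct205_9 v205_9 4 w205_9_3 := (Phs.stp c205_10 p205_9_1)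
theorem p205_9_6 : Phs s205 a205_2 [] [s228, s229, s230, s231, s232, s233] ct205_9 v205_9 2 w205_9_6 := (Phs.app (Phs.stp c205_11 p205_9_3) (Phs.stp c205_12 p205_9_3))
theorem p205_9_8 : Phs s205 a205_2 [] [s228, s229, s230, s231, s232, s233] ct205_9 v205_9 1 w205_9_8 := (Phs.stp c205_13 p205_9_6)
theorem p205_9_11 : Phs s205 a205_2 [] [s228, s229, s230, s231, s232, s233] ct205_9 v205_9 5 w205_9_11 := (Phs.fin c205_15)
theorem n205 : Sound.{u} (cM2r 1 0) s205 0 :=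
  (x205_2.spl c205_0 (AllM.cons ((x205_2.lam 0).tp c205_1 :) (AllM.cons (x205_L33_2.tp c205_4 :) (AllM.cons ((x205_2.lam 37).e8 c205_5 :) (AllM.cons (x205_L161_1.tp c205_7 :) (AllM.cons ((x205_2.lam 165).e8 c205_8 :) AllM.nil))))) ((x205_2.weaken 1).ext2 (fun _ => rfl) GamS.nil (AllS.cons n228 (AllS.cons n229 (AllS.cons n230 (AllS.cons n231 (AllS.cons n232 (AllS.cons n233 AllS.nil)))))) c205_17 (Phs.stp c205_14 p205_9_8) (Phs.stp c205_16 p205_9_11)) :)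
theorem x197 : AuxS.{u} (cM2r 1 0) s197 0 a197 := aux_base3 tw11 rfl b197
theorem x197_1 : AuxS.{u} (cM2r 1 0) s197 0 a197_1 := (AuxS.up x197 c197_1 :)
theorem n197 : Sound.{u} (cM2r 1 0) s197 0 :=
  (x197_1.fr2 GamS.nil (AllS.cons n204 (AllS.cons n205 AllS.nil)) c197_0 :)
theorem x198 : AuxS.{u} (cM2r 1 0) s198 0 a198 := aux_base3 tw11 rfl b198
theorem n198 : Sound.{u} (cM2r 1 0) s198 0 :=
  (x198.k4 c198_0 :)
theorem x199 : AuxS.{u} (cM2r 1 0) s199 0 a199 := aux_base3 tw11 rfl b199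
theorem n199 : Sound.{u} (cM2r 1 0) s199 0 :=
  (x199.k4 c199_0 :)
theorem x200 : AuxS.{u} (cM2r 1 0) s200 0 a200 := aux_base3 tw11 rfl b200
theorem n200 : Sound.{u} (cM2r 1 0) s200 0 :=
  (x200.k4 c200_0 :)
theorem x201 : AuxS.{u} (cM2r 1 0) s201 0 a201 := aux_base3 tw11 rfl b201
theorem n201 : Sound.{u} (cM2r 1 0) s201 0 :=
  (x201.k4 c201_0 :)
theorem x202 : AuxS.{u} (cM2r 1 0) s202 0 a202 := aux_base3 tw11 rfl b202
theorem n202 : Sound.{u} (cM2r 1 0) s202 0 :=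
  (x202.k4 c202_0 :)
theorem x203 : AuxS.{u} (cM2r 1 0) s203 0 a203 := aux_base3 tw11 rfl b203
theorem n203 : Sound.{u} (cM2r 1 0) s203 0 :=
  (x203.k4 c203_0 :)
theorem x12 : AuxS.{u} (cM2r 1 0) s12 0 a12 := aux_base3 tw11 rfl b12
theorem x12_1 : AuxS.{u} (cM2r 1 0) s12 0 a12_1 := x12
theorem n12 : Sound.{u} (cM2r 1 0) s12 0 :=
  (x12_1.fr (AuxS.gam x12_1 c12_0) (AllS.cons n196 (AllS.cons n197 (AllS.cons n198 (AllS.cons n199 (AllS.cons n200 (AllS.cons n201 (AllS.cons n202 (AllS.cons n203 AllS.nil)))))))) c12_1 :)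
theorem x13 : AuxS.{u} (cM2r 1 0) s13 0 a13 := aux_base3 tw12 rfl b13
theorem x13_1 : AuxS.{u} (cM2r 1 0) s13 0 a13_1 := x13
theorem n13 : Sound.{u} (cM2r 1 0) s13 0 :=
  (x13_1.fr GamS.nil AllS.nil c13_0 :)
theorem x14 : AuxS.{u} (cM2r 1 0) s14 0 a14 := aux_base3 tw13 rfl b14
theorem x14_1 : AuxS.{u} (cM2r 1 0) s14 0 a14_1 := x14
theorem n14 : Sound.{u} (cM2r 1 0) s14 0 :=
  (x14_1.fr GamS.nil AllS.nil c14_0 :)
theorem x15 : AuxS.{u} (cM2r 1 0) s15 0 a15 := aux_base3 tw14 rfl b15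
theorem x15_1 : AuxS.{u} (cM2r 1 0) s15 0 a15_1 := x15
theorem n15 : Sound.{u} (cM2r 1 0) s15 0 :=
  (x15_1.fr GamS.nil AllS.nil c15_0 :)
theorem x16 : AuxS.{u} (cM2r 1 0) s16 0 a16 := aux_base3 tw15 rfl b16
theorem n16 : Sound.{u} (cM2r 1 0) s16 0 :=
  (x16.k3 c16_0 :)
theorem x17 : AuxS.{u} (cM2r 1 0) s17 0 a17 := aux_base3 tw16 rfl b17
theorem n17 : Sound.{u} (cM2r 1 0) s17 0 :=
  (x17.k3 c17_0 :)
theorem x7 : AuxS.{u} (cM2r 1 0) s7 0 a7 := aux_base3 tw1 rfl b7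
theorem x7_1 : AuxS.{u} (cM2r 1 0) s7 0 a7_1 := (AuxS.up x7 c7_5 :)
theorem p7_0_1 : Phs s7 a7_1 (List.map Prod.fst g7_0) [s8, s9, s10, s11, s12, s13, s14, s15, s16, s17] ct7_0 v7_0 4 w7_0_1 := (Phs.fin c7_1)
theorem p7_0_3 : Phs s7 a7_1 (List.map Prod.fst g7_0) [s8, s9, s10, s11, s12, s13, s14, s15, s16, s17] ct7_0 v7_0 1 w7_0_3 := (Phs.stp c7_2 p7_0_1)
theorem n7 : Sound.{u} (cM2r 1 0) s7 0 :=
  (x7_1.ext2 (fun h => absurd h (by decide)) (AuxS.gam x7_1 c7_0) (AllS.cons n8 (AllS.cons n9 (AllS.cons n10 (AllS.cons n11 (AllS.cons n12 (AllS.cons n13 (AllS.cons n14 (AllS.cons n15 (AllS.cons n16 (AllS.cons n17 AllS.nil)))))))))) c7_4 (Phs.stp c7_3 p7_0_3) (Phs.fin (ct := ct7_0) rfl) :)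
theorem x5 : AuxS.{u} (cM2r 1 0) s5 0 a5 := aux_base3 tw5 rfl b5
theorem x5_1 : AuxS.{u} (cM2r 1 0) s5 0 a5_1 := x5
theorem x5_2 : AuxS.{u} (cM2r 1 0) s5 0 a5_2 := x5_1
theorem n5 : Sound.{u} (cM2r 1 0) s5 0 :=
  (x5_2.jump c5_0 c5_1 n7 :)
theorem x6 : AuxS.{u} (cM2r 1 0) s6 0 a6 := aux_base3 tw6 rfl b6
theorem x6_1 : AuxS.{u} (cM2r 1 0) s6 0 a6_1 := (AuxS.up x6 c6_1 :)
theorem n6 : Sound.{u} (cM2r 1 0) s6 0 :=
  (x6_1.k1 c6_0 :)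
theorem x1 : AuxS.{u} (cM2r 1 0) s1 0 a1 := aux_base3 tw1 rfl b1
theorem x1_1 : AuxS.{u} (cM2r 1 0) s1 0 a1_1 := x1
theorem n1 : Sound.{u} (cM2r 1 0) s1 0 :=
  (x1_1.ext2 (fun h => absurd h (by decide)) GamS.nil (AllS.cons n5 (AllS.cons n6 AllS.nil)) c1_1 (Phs.fin (ct := ct1_0) rfl) (Phs.fin c1_0) :)
theorem x2 : AuxS.{u} (cM2r 1 0) s2 0 a2 := aux_base3 tw2 rfl b2
theorem x2_1 : AuxS.{u} (cM2r 1 0) s2 0 a2_1 := (AuxS.up x2 c2_1 :)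
theorem n2 : Sound.{u} (cM2r 1 0) s2 0 :=
  (x2_1.k1 c2_0 :)
theorem x312 : AuxS.{u} (cM2r 1 0) s312 0 a312 := aux_base3 tw102 rfl b312
theorem x312_1 : AuxS.{u} (cM2r 1 0) s312 0 a312_1 := (AuxS.up x312 c312_9 :)
theorem x312_2 : AuxS.{u} (cM2r 1 0) s312 0 a312_2 := (AuxS.up2 x312_1 c312_10 :)
theorem x312_3 : AuxS.{u} (cM2r 1 0) s312 0 a312_3 := (AuxS.up x312_2 c312_11 :)
theorem x312_L5_1 : AuxS.{u} (cM2r 1 0) s312 (5 + 2) a312_L5_1 := (AuxS.hp (x312_3.lam 5) c312_2 :)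
theorem x312_L517_1 : AuxS.{u} (cM2r 1 0) s312 (517 + 2) a312_L517_1 := (AuxS.hp (x312_3.lam 517) c312_5 :)
theorem n312 : Sound.{u} (cM2r 1 0) s312 0 :=
  (x312_3.spl c312_0 (AllM.cons ((x312_3.lam 0).tp c312_1 :) (AllM.cons (x312_L5_1.tp c312_3 :) (AllM.cons ((x312_3.lam 257).e8 c312_4 :) (AllM.cons (x312_L517_1.tp c312_6 :) (AllM.cons ((x312_3.lam 769).e8 c312_7 :) AllM.nil))))) ((x312_3.weaken 1).ext2 (fun _ => rfl) GamS.nil AllS.nil c312_8 (Phs.fin (ct := ct312_8) rfl) (Phs.fin (ct := ct312_8) rfl)) :)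
theorem x313 : AuxS.{u} (cM2r 1 0) s313 0 a313 := aux_base3 tw103 rfl b313
theorem x313_1 : AuxS.{u} (cM2r 1 0) s313 0 a313_1 := (AuxS.up x313 c313_9 :)
theorem x313_L5_1 : AuxS.{u} (cM2r 1 0) s313 (5 + 2) a313_L5_1 := (AuxS.hp (x313_1.lam 5) c313_2 :)
theorem x313_L517_1 : AuxS.{u} (cM2r 1 0) s313 (517 + 2) a313_L517_1 := (AuxS.hp (x313_1.lam 517) c313_5 :)
theorem n313 : Sound.{u} (cM2r 1 0) s313 0 :=
  (x313_1.spl c313_0 (AllM.cons ((x313_1.lam 0).tp c313_1 :) (AllM.cons (x313_L5_1.tp c313_3 :) (AllM.cons ((x313_1.lam 257).e8 c313_4 :) (AllM.cons (x313_L517_1.tp c313_6 :) (AllM.cons ((x313_1.lam 769).e8 c313_7 :) AllM.nil))))) ((x313_1.weaken 1).ext2 (fun _ => rfl) GamS.nil AllS.nil c313_8 (Phs.fin (ct := ct313_8) rfl) (Phs.fin (ct := ct313_8) rfl)) :)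
theorem x314 : AuxS.{u} (cM2r 1 0) s314 0 a314 := aux_base3 tw104 rfl b314
theorem x314_1 : AuxS.{u} (cM2r 1 0) s314 0 a314_1 := (AuxS.up x314 c314_9 :)
theorem x314_2 : AuxS.{u} (cM2r 1 0) s314 0 a314_2 := (AuxS.up x314_1 c314_10 :)
theorem x314_3 : AuxS.{u} (cM2r 1 0) s314 0 a314_3 := (AuxS.up2 x314_2 c314_11 :)
theorem x314_L5_1 : AuxS.{u} (cM2r 1 0) s314 (5 + 2) a314_L5_1 := (AuxS.hp (x314_3.lam 5) c314_2 :)
theorem x314_L517_1 : AuxS.{u} (cM2r 1 0) s314 (517 + 2) a314_L517_1 := (AuxS.hp (x314_3.lam 517) c314_5 :)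
theorem n314 : Sound.{u} (cM2r 1 0) s314 0 :=
  (x314_3.spl c314_0 (AllM.cons ((x314_3.lam 0).tp c314_1 :) (AllM.cons (x314_L5_1.tp c314_3 :) (AllM.cons ((x314_3.lam 257).e8 c314_4 :) (AllM.cons (x314_L517_1.tp c314_6 :) (AllM.cons ((x314_3.lam 769).e8 c314_7 :) AllM.nil))))) ((x314_3.weaken 1).ext2 (fun _ => rfl) GamS.nil AllS.nil c314_8 (Phs.fin (ct := ct314_8) rfl) (Phs.fin (ct := ct314_8) rfl)) :)
theorem x315 : AuxS.{u} (cM2r 1 0) s315 0 a315 := aux_base3 tw105 rfl b315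
theorem x315_1 : AuxS.{u} (cM2r 1 0) s315 0 a315_1 := (AuxS.up x315 c315_9 :)
theorem x315_2 : AuxS.{u} (cM2r 1 0) s315 0 a315_2 := (AuxS.up x315_1 c315_10 :)
theorem x315_3 : AuxS.{u} (cM2r 1 0) s315 0 a315_3 := (AuxS.up2 x315_2 c315_11 :)
theorem x315_L5_1 : AuxS.{u} (cM2r 1 0) s315 (5 + 2) a315_L5_1 := (AuxS.hp (x315_3.lam 5) c315_2 :)
theorem x315_L517_1 : AuxS.{u} (cM2r 1 0) s315 (517 + 2) a315_L517_1 := (AuxS.hp (x315_3.lam 517) c315_5 :)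
theorem n315 : Sound.{u} (cM2r 1 0) s315 0 :=
  (x315_3.spl c315_0 (AllM.cons ((x315_3.lam 0).tp c315_1 :) (AllM.cons (x315_L5_1.tp c315_3 :) (AllM.cons ((x315_3.lam 257).e8 c315_4 :) (AllM.cons (x315_L517_1.tp c315_6 :) (AllM.cons ((x315_3.lam 769).e8 c315_7 :) AllM.nil))))) ((x315_3.weaken 1).ext2 (fun _ => rfl) GamS.nil AllS.nil c315_8 (Phs.fin (ct := ct315_8) rfl) (Phs.fin (ct := ct315_8) rfl)) :)
theorem x316 : AuxS.{u} (cM2r 1 0) s316 0 a316 := aux_base3 tw106 rfl b316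
theorem x316_1 : AuxS.{u} (cM2r 1 0) s316 0 a316_1 := (AuxS.up x316 c316_9 :)
theorem x316_2 : AuxS.{u} (cM2r 1 0) s316 0 a316_2 := (AuxS.up x316_1 c316_10 :)
theorem x316_3p : AuxS.{u} (cM2r 1 0) s316 0 a316_3p := (AuxS.up x316_2 c316_11 :)
theorem x316_3 : AuxS.{u} (cM2r 1 0) s316 0 a316_3 := (AuxS.up2 x316_3p c316_12 :)
theorem x316_L5_1 : AuxS.{u} (cM2r 1 0) s316 (5 + 2) a316_L5_1 := (AuxS.hp (x316_3.lam 5) c316_2 :)
theorem x316_L517_1 : AuxS.{u} (cM2r 1 0) s316 (517 + 2) a316_L517_1 := (AuxS.hp (x316_3.lam 517) c316_5 :)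
theorem n316 : Sound.{u} (cM2r 1 0) s316 0 :=
  (x316_3.spl c316_0 (AllM.cons ((x316_3.lam 0).tp c316_1 :) (AllM.cons (x316_L5_1.tp c316_3 :) (AllM.cons ((x316_3.lam 257).e8 c316_4 :) (AllM.cons (x316_L517_1.tp c316_6 :) (AllM.cons ((x316_3.lam 769).e8 c316_7 :) AllM.nil))))) ((x316_3.weaken 1).ext2 (fun _ => rfl) GamS.nil AllS.nil c316_8 (Phs.fin (ct := ct316_8) rfl) (Phs.fin (ct := ct316_8) rfl)) :)
theorem x317 : AuxS.{u} (cM2r 1 0) s317 0 a317 := aux_base3 tw107 rfl b317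
theorem x317_1 : AuxS.{u} (cM2r 1 0) s317 0 a317_1 := (AuxS.up x317 c317_9 :)
theorem x317_2 : AuxS.{u} (cM2r 1 0) s317 0 a317_2 := (AuxS.up x317_1 c317_10 :)
theorem x317_3 : AuxS.{u} (cM2r 1 0) s317 0 a317_3 := (AuxS.up2 x317_2 c317_11 :)
theorem x317_L5_1 : AuxS.{u} (cM2r 1 0) s317 (5 + 2) a317_L5_1 := (AuxS.hp (x317_3.lam 5) c317_2 :)
theorem x317_L517_1 : AuxS.{u} (cM2r 1 0) s317 (517 + 2) a317_L517_1 := (AuxS.hp (x317_3.lam 517) c317_5 :)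
theorem n317 : Sound.{u} (cM2r 1 0) s317 0 :=
  (x317_3.spl c317_0 (AllM.cons ((x317_3.lam 0).tp c317_1 :) (AllM.cons (x317_L5_1.tp c317_3 :) (AllM.cons ((x317_3.lam 257).e8 c317_4 :) (AllM.cons (x317_L517_1.tp c317_6 :) (AllM.cons ((x317_3.lam 769).e8 c317_7 :) AllM.nil))))) ((x317_3.weaken 1).ext2 (fun _ => rfl) GamS.nil AllS.nil c317_8 (Phs.fin (ct := ct317_8) rfl) (Phs.fin (ct := ct317_8) rfl)) :)
theorem x318 : AuxS.{u} (cM2r 1 0) s318 0 a318 := aux_base3 tw108 rfl b318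
theorem x318_1 : AuxS.{u} (cM2r 1 0) s318 0 a318_1 := (AuxS.up x318 c318_9 :)
theorem x318_2 : AuxS.{u} (cM2r 1 0) s318 0 a318_2 := (AuxS.up x318_1 c318_10 :)
theorem x318_3 : AuxS.{u} (cM2r 1 0) s318 0 a318_3 := (AuxS.up2 x318_2 c318_11 :)
theorem x318_L5_1 : AuxS.{u} (cM2r 1 0) s318 (5 + 2) a318_L5_1 := (AuxS.hp (x318_3.lam 5) c318_2 :)
theorem x318_L517_1 : AuxS.{u} (cM2r 1 0) s318 (517 + 2) a318_L517_1 := (AuxS.hp (x318_3.lam 517) c318_5 :)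
theorem n318 : Sound.{u} (cM2r 1 0) s318 0 :=
  (x318_3.spl c318_0 (AllM.cons ((x318_3.lam 0).tp c318_1 :) (AllM.cons (x318_L5_1.tp c318_3 :) (AllM.cons ((x318_3.lam 257).e8 c318_4 :) (AllM.cons (x318_L517_1.tp c318_6 :) (AllM.cons ((x318_3.lam 769).e8 c318_7 :) AllM.nil))))) ((x318_3.weaken 1).ext2 (fun _ => rfl) GamS.nil AllS.nil c318_8 (Phs.fin (ct := ct318_8) rfl) (Phs.fin (ct := ct318_8) rfl)) :)
theorem x319 : AuxS.{u} (cM2r 1 0) s319 0 a319 := aux_base3 tw109 rfl b319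
theorem x319_1 : AuxS.{u} (cM2r 1 0) s319 0 a319_1 := (AuxS.up x319 c319_9 :)
theorem x319_2 : AuxS.{u} (cM2r 1 0) s319 0 a319_2 := (AuxS.up x319_1 c319_10 :)
theorem x319_3p : AuxS.{u} (cM2r 1 0) s319 0 a319_3p := (AuxS.up x319_2 c319_11 :)
theorem x319_3 : AuxS.{u} (cM2r 1 0) s319 0 a319_3 := (AuxS.up2 x319_3p c319_12 :)
theorem x319_L5_1 : AuxS.{u} (cM2r 1 0) s319 (5 + 2) a319_L5_1 := (AuxS.hp (x319_3.lam 5) c319_2 :)
theorem x319_L517_1 : AuxS.{u} (cM2r 1 0) s319 (517 + 2) a319_L517_1 := (AuxS.hp (x319_3.lam 517) c319_5 :)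
theorem n319 : Sound.{u} (cM2r 1 0) s319 0 :=
  (x319_3.spl c319_0 (AllM.cons ((x319_3.lam 0).tp c319_1 :) (AllM.cons (x319_L5_1.tp c319_3 :) (AllM.cons ((x319_3.lam 257).e8 c319_4 :) (AllM.cons (x319_L517_1.tp c319_6 :) (AllM.cons ((x319_3.lam 769).e8 c319_7 :) AllM.nil))))) ((x319_3.weaken 1).ext2 (fun _ => rfl) GamS.nil AllS.nil c319_8 (Phs.fin (ct := ct319_8) rfl) (Phs.fin (ct := ct319_8) rfl)) :)
theorem x280 : AuxS.{u} (cM2r 1 0) s280 0 a280 := aux_base3 tw101 rfl b280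
theorem x280_1 : AuxS.{u} (cM2r 1 0) s280 0 a280_1 := (AuxS.up x280 c280_15 :)
theorem x280_2 : AuxS.{u} (cM2r 1 0) s280 0 a280_2 := (AuxS.up x280_1 c280_16 :)
theorem x280_3 : AuxS.{u} (cM2r 1 0) s280 0 a280_3 := (AuxS.up2 x280_2 c280_17 :)
theorem x280_L5_1 : AuxS.{u} (cM2r 1 0) s280 (5 + 2) a280_L5_1 := (AuxS.hp (x280_3.lam 5) c280_3 :)
theorem x280_L5_2 : AuxS.{u} (cM2r 1 0) s280 (5 + 2) a280_L5_2 := (AuxS.ne x280_L5_1 c280_4 :)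
theorem x280_L261_1 : AuxS.{u} (cM2r 1 0) s280 (261 + 2) a280_L261_1 := (AuxS.hp (x280_3.lam 261) c280_7 :)
theorem p280_9_1 : Phs s280 a280_3 [] [s312, s313, s314, s315, s316, s317, s318, s319] ct280_9 v280_9 5 w280_9_1 := (Phs.fin c280_9)
theorem p280_9_3 : Phs s280 a280_3 [] [s312, s313, s314, s315, s316, s317, s318, s319] ct280_9 v280_9 4 w280_9_3 := (Phs.stp c280_10 p280_9_1)
theorem p280_9_5 : Phs s280 a280_3 [] [s312, s313, s314, s315, s316, s317, s318, s319] ct280_9 v280_9 2 w280_9_5 := (Phs.stp c280_11 p280_9_3)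
theorem p280_9_7 : Phs s280 a280_3 [] [s312, s313, s314, s315, s316, s317, s318, s319] ct280_9 v280_9 1 w280_9_7 := (Phs.stp c280_12 p280_9_5)
theorem n280 : Sound.{u} (cM2r 1 0) s280 0 :=
  (x280_3.spl c280_0 (AllM.cons ((x280_3.lam 0).tp c280_1 :) (AllM.cons ((x280_3.lam 1).e8 c280_2 :) (AllM.cons (x280_L5_2.tp c280_5 :) (AllM.cons ((x280_3.lam 257).e8 c280_6 :) (AllM.cons (x280_L261_1.tp c280_8 :) AllM.nil))))) ((x280_3.weaken 1).ext2 (fun _ => rfl) GamS.nil (AllS.cons n312 (AllS.cons n313 (AllS.cons n314 (AllS.cons n315 (AllS.cons n316 (AllS.cons n317 (AllS.cons n318 (AllS.cons n319 AllS.nil)))))))) c280_14 (Phs.stp c280_13 p280_9_7) (Phs.fin (ct := ct280_9) rfl)) :)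
theorem x281 : AuxS.{u} (cM2r 1 0) s281 0 a281 := aux_base3 tw101 rfl b281
theorem n281 : Sound.{u} (cM2r 1 0) s281 0 :=
  (x281.k4 c281_0 :)
theorem x282 : AuxS.{u} (cM2r 1 0) s282 0 a282 := aux_base3 tw101 rfl b282
theorem n282 : Sound.{u} (cM2r 1 0) s282 0 :=
  (x282.k4 c282_0 :)
theorem x283 : AuxS.{u} (cM2r 1 0) s283 0 a283 := aux_base3 tw101 rfl b283
theorem n283 : Sound.{u} (cM2r 1 0) s283 0 :=
  (x283.k4 c283_0 :)
theorem x284 : AuxS.{u} (cM2r 1 0) s284 0 a284 := aux_base3 tw101 rfl b284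
theorem n284 : Sound.{u} (cM2r 1 0) s284 0 :=
  (x284.k4 c284_0 :)
theorem x285 : AuxS.{u} (cM2r 1 0) s285 0 a285 := aux_base3 tw101 rfl b285
theorem n285 : Sound.{u} (cM2r 1 0) s285 0 :=
  (x285.k4 c285_0 :)
theorem x286 : AuxS.{u} (cM2r 1 0) s286 0 a286 := aux_base3 tw101 rfl b286
theorem n286 : Sound.{u} (cM2r 1 0) s286 0 :=
  (x286.k4 c286_0 :)
theorem x287 : AuxS.{u} (cM2r 1 0) s287 0 a287 := aux_base3 tw101 rfl b287
theorem n287 : Sound.{u} (cM2r 1 0) s287 0 :=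
  (x287.k4 c287_0 :)
theorem x288 : AuxS.{u} (cM2r 1 0) s288 0 a288 := aux_base3 tw101 rfl b288
theorem n288 : Sound.{u} (cM2r 1 0) s288 0 :=
  (x288.k4 c288_0 :)
theorem x289 : AuxS.{u} (cM2r 1 0) s289 0 a289 := aux_base3 tw101 rfl b289
theorem n289 : Sound.{u} (cM2r 1 0) s289 0 :=
  (x289.k4 c289_0 :)
theorem x290 : AuxS.{u} (cM2r 1 0) s290 0 a290 := aux_base3 tw101 rfl b290
theorem n290 : Sound.{u} (cM2r 1 0) s290 0 :=
  (x290.k4 c290_0 :)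
theorem x291 : AuxS.{u} (cM2r 1 0) s291 0 a291 := aux_base3 tw101 rfl b291
theorem n291 : Sound.{u} (cM2r 1 0) s291 0 :=
  (x291.k4 c291_0 :)
theorem x292 : AuxS.{u} (cM2r 1 0) s292 0 a292 := aux_base3 tw101 rfl b292
theorem n292 : Sound.{u} (cM2r 1 0) s292 0 :=
  (x292.k4 c292_0 :)
theorem x293 : AuxS.{u} (cM2r 1 0) s293 0 a293 := aux_base3 tw101 rfl b293
theorem x293_1 : AuxS.{u} (cM2r 1 0) s293 0 a293_1 := x293
theorem x293_2 : AuxS.{u} (cM2r 1 0) s293 0 a293_2 := x293_1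
theorem x293_3 : AuxS.{u} (cM2r 1 0) s293 0 a293_3 := x293_2
theorem n293 : Sound.{u} (cM2r 1 0) s293 0 :=
  (x293_3.jump c293_0 c293_1 n280 :)
theorem x294 : AuxS.{u} (cM2r 1 0) s294 0 a294 := aux_base3 tw101 rfl b294
theorem n294 : Sound.{u} (cM2r 1 0) s294 0 :=
  (x294.k4 c294_0 :)
theorem x295 : AuxS.{u} (cM2r 1 0) s295 0 a295 := aux_base3 tw101 rfl b295
theorem n295 : Sound.{u} (cM2r 1 0) s295 0 :=
  (x295.k4 c295_0 :)
theorem x296 : AuxS.{u} (cM2r 1 0) s296 0 a296 := aux_base3 tw101 rfl b296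
theorem x296_1 : AuxS.{u} (cM2r 1 0) s296 0 a296_1 := x296
theorem x296_2 : AuxS.{u} (cM2r 1 0) s296 0 a296_2 := x296_1
theorem x296_3 : AuxS.{u} (cM2r 1 0) s296 0 a296_3 := x296_2
theorem n296 : Sound.{u} (cM2r 1 0) s296 0 :=
  (x296_3.jump c296_0 c296_1 n280 :)
theorem x297 : AuxS.{u} (cM2r 1 0) s297 0 a297 := aux_base3 tw101 rfl b297
theorem n297 : Sound.{u} (cM2r 1 0) s297 0 :=
  (x297.k4 c297_0 :)
theorem x298 : AuxS.{u} (cM2r 1 0) s298 0 a298 := aux_base3 tw101 rfl b298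
theorem n298 : Sound.{u} (cM2r 1 0) s298 0 :=
  (x298.k4 c298_0 :)
theorem x299 : AuxS.{u} (cM2r 1 0) s299 0 a299 := aux_base3 tw101 rfl b299
theorem n299 : Sound.{u} (cM2r 1 0) s299 0 :=
  (x299.k4 c299_0 :)
theorem x300 : AuxS.{u} (cM2r 1 0) s300 0 a300 := aux_base3 tw101 rfl b300
theorem n300 : Sound.{u} (cM2r 1 0) s300 0 :=
  (x300.k4 c300_0 :)
theorem x301 : AuxS.{u} (cM2r 1 0) s301 0 a301 := aux_base3 tw101 rfl b301
theorem n301 : Sound.{u} (cM2r 1 0) s301 0 :=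
  (x301.k4 c301_0 :)
theorem x302 : AuxS.{u} (cM2r 1 0) s302 0 a302 := aux_base3 tw101 rfl b302
theorem n302 : Sound.{u} (cM2r 1 0) s302 0 :=
  (x302.k4 c302_0 :)
theorem x303 : AuxS.{u} (cM2r 1 0) s303 0 a303 := aux_base3 tw101 rfl b303
theorem n303 : Sound.{u} (cM2r 1 0) s303 0 :=
  (x303.k4 c303_0 :)
theorem x304 : AuxS.{u} (cM2r 1 0) s304 0 a304 := aux_base3 tw101 rfl b304
theorem n304 : Sound.{u} (cM2r 1 0) s304 0 :=
  (x304.k4 c304_0 :)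
theorem x305 : AuxS.{u} (cM2r 1 0) s305 0 a305 := aux_base3 tw101 rfl b305
theorem n305 : Sound.{u} (cM2r 1 0) s305 0 :=
  (x305.k4 c305_0 :)
theorem x306 : AuxS.{u} (cM2r 1 0) s306 0 a306 := aux_base3 tw101 rfl b306
theorem n306 : Sound.{u} (cM2r 1 0) s306 0 :=
  (x306.k4 c306_0 :)
theorem x307 : AuxS.{u} (cM2r 1 0) s307 0 a307 := aux_base3 tw101 rfl b307
theorem n307 : Sound.{u} (cM2r 1 0) s307 0 :=
  (x307.k4 c307_0 :)
theorem x308 : AuxS.{u} (cM2r 1 0) s308 0 a308 := aux_base3 tw101 rfl b308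
theorem n308 : Sound.{u} (cM2r 1 0) s308 0 :=
  (x308.k4 c308_0 :)
theorem x309 : AuxS.{u} (cM2r 1 0) s309 0 a309 := aux_base3 tw101 rfl b309
theorem x309_1 : AuxS.{u} (cM2r 1 0) s309 0 a309_1 := x309
theorem x309_2 : AuxS.{u} (cM2r 1 0) s309 0 a309_2 := x309_1
theorem x309_3 : AuxS.{u} (cM2r 1 0) s309 0 a309_3 := x309_2
theorem n309 : Sound.{u} (cM2r 1 0) s309 0 :=
  (x309_3.jump c309_0 c309_1 n280 :)
theorem x310 : AuxS.{u} (cM2r 1 0) s310 0 a310 := aux_base3 tw101 rfl b310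
theorem n310 : Sound.{u} (cM2r 1 0) s310 0 :=
  (x310.k4 c310_0 :)
theorem x311 : AuxS.{u} (cM2r 1 0) s311 0 a311 := aux_base3 tw101 rfl b311
theorem n311 : Sound.{u} (cM2r 1 0) s311 0 :=
  (x311.k4 c311_0 :)
theorem x276 : AuxS.{u} (cM2r 1 0) s276 0 a276 := aux_base3 tw101 rfl b276
theorem x276_1 : AuxS.{u} (cM2r 1 0) s276 0 a276_1 := x276
theorem x276_2 : AuxS.{u} (cM2r 1 0) s276 0 a276_2 := x276_1
theorem x276_3 : AuxS.{u} (cM2r 1 0) s276 0 a276_3 := x276_2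
theorem n276 : Sound.{u} (cM2r 1 0) s276 0 :=
  (x276_3.fr GamS.nil (AllS.cons n280 (AllS.cons n281 (AllS.cons n282 (AllS.cons n283 (AllS.cons n284 (AllS.cons n285 (AllS.cons n286 (AllS.cons n287 (AllS.cons n288 (AllS.cons n289 (AllS.cons n290 (AllS.cons n291 (AllS.cons n292 (AllS.cons n293 (AllS.cons n294 (AllS.cons n295 (AllS.cons n296 (AllS.cons n297 (AllS.cons n298 (AllS.cons n299 (AllS.cons n300 (AllS.cons n301 (AllS.cons n302 (AllS.cons n303 (AllS.cons n304 (AllS.cons n305 (AllS.cons n306 (AllS.cons n307 (AllS.cons n308 (AllS.cons n309 (AllS.cons n310 (AllS.cons n311 AllS.nil)))))))))))))))))))))))))))))))) c276_0 :)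
theorem x352 : AuxS.{u} (cM2r 1 0) s352 0 a352 := aux_base3 tw110 rfl b352
theorem x352_1 : AuxS.{u} (cM2r 1 0) s352 0 a352_1 := (AuxS.up x352 c352_9 :)
theorem x352_2 : AuxS.{u} (cM2r 1 0) s352 0 a352_2 := (AuxS.up2 x352_1 c352_10 :)
theorem x352_3 : AuxS.{u} (cM2r 1 0) s352 0 a352_3 := (AuxS.up x352_2 c352_11 :)
theorem x352_L5_1 : AuxS.{u} (cM2r 1 0) s352 (5 + 2) a352_L5_1 := (AuxS.hp (x352_3.lam 5) c352_2 :)
theorem x352_L517_1 : AuxS.{u} (cM2r 1 0) s352 (517 + 2) a352_L517_1 := (AuxS.hp (x352_3.lam 517) c352_5 :)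
theorem n352 : Sound.{u} (cM2r 1 0) s352 0 :=
  (x352_3.spl c352_0 (AllM.cons ((x352_3.lam 0).tp c352_1 :) (AllM.cons (x352_L5_1.tp c352_3 :) (AllM.cons ((x352_3.lam 257).e8 c352_4 :) (AllM.cons (x352_L517_1.tp c352_6 :) (AllM.cons ((x352_3.lam 769).e8 c352_7 :) AllM.nil))))) ((x352_3.weaken 1).ext2 (fun _ => rfl) GamS.nil AllS.nil c352_8 (Phs.fin (ct := ct352_8) rfl) (Phs.fin (ct := ct352_8) rfl)) :)
theorem x353 : AuxS.{u} (cM2r 1 0) s353 0 a353 := aux_base3 tw111 rfl b353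
theorem x353_1 : AuxS.{u} (cM2r 1 0) s353 0 a353_1 := (AuxS.up x353 c353_9 :)
theorem x353_L5_1 : AuxS.{u} (cM2r 1 0) s353 (5 + 2) a353_L5_1 := (AuxS.hp (x353_1.lam 5) c353_2 :)
theorem x353_L517_1 : AuxS.{u} (cM2r 1 0) s353 (517 + 2) a353_L517_1 := (AuxS.hp (x353_1.lam 517) c353_5 :)
theorem n353 : Sound.{u} (cM2r 1 0) s353 0 :=
  (x353_1.spl c353_0 (AllM.cons ((x353_1.lam 0).tp c353_1 :) (AllM.cons (x353_L5_1.tp c353_3 :) (AllM.cons ((x353_1.lam 257).e8 c353_4 :) (AllM.cons (x353_L517_1.tp c353_6 :) (AllM.cons ((x353_1.lam 769).e8 c353_7 :) AllM.nil))))) ((x353_1.weaken 1).ext2 (fun _ => rfl) GamS.nil AllS.nil c353_8 (Phs.fin (ct := ct353_8) rfl) (Phs.fin (ct := ct353_8) rfl)) :)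
theorem x354 : AuxS.{u} (cM2r 1 0) s354 0 a354 := aux_base3 tw112 rfl b354
theorem x354_1 : AuxS.{u} (cM2r 1 0) s354 0 a354_1 := (AuxS.up x354 c354_9 :)
theorem x354_2 : AuxS.{u} (cM2r 1 0) s354 0 a354_2 := (AuxS.up x354_1 c354_10 :)
theorem x354_3 : AuxS.{u} (cM2r 1 0) s354 0 a354_3 := (AuxS.up2 x354_2 c354_11 :)
theorem x354_L5_1 : AuxS.{u} (cM2r 1 0) s354 (5 + 2) a354_L5_1 := (AuxS.hp (x354_3.lam 5) c354_2 :)
theorem x354_L517_1 : AuxS.{u} (cM2r 1 0) s354 (517 + 2) a354_L517_1 := (AuxS.hp (x354_3.lam 517) c354_5 :)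
theorem n354 : Sound.{u} (cM2r 1 0) s354 0 :=
  (x354_3.spl c354_0 (AllM.cons ((x354_3.lam 0).tp c354_1 :) (AllM.cons (x354_L5_1.tp c354_3 :) (AllM.cons ((x354_3.lam 257).e8 c354_4 :) (AllM.cons (x354_L517_1.tp c354_6 :) (AllM.cons ((x354_3.lam 769).e8 c354_7 :) AllM.nil))))) ((x354_3.weaken 1).ext2 (fun _ => rfl) GamS.nil AllS.nil c354_8 (Phs.fin (ct := ct354_8) rfl) (Phs.fin (ct := ct354_8) rfl)) :)
theorem x355 : AuxS.{u} (cM2r 1 0) s355 0 a355 := aux_base3 tw113 rfl b355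
theorem x355_1 : AuxS.{u} (cM2r 1 0) s355 0 a355_1 := (AuxS.up x355 c355_9 :)
theorem x355_2 : AuxS.{u} (cM2r 1 0) s355 0 a355_2 := (AuxS.up x355_1 c355_10 :)
theorem x355_3 : AuxS.{u} (cM2r 1 0) s355 0 a355_3 := (AuxS.up2 x355_2 c355_11 :)
theorem x355_L5_1 : AuxS.{u} (cM2r 1 0) s355 (5 + 2) a355_L5_1 := (AuxS.hp (x355_3.lam 5) c355_2 :)
theorem x355_L517_1 : AuxS.{u} (cM2r 1 0) s355 (517 + 2) a355_L517_1 := (AuxS.hp (x355_3.lam 517) c355_5 :)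
theorem n355 : Sound.{u} (cM2r 1 0) s355 0 :=
  (x355_3.spl c355_0 (AllM.cons ((x355_3.lam 0).tp c355_1 :) (AllM.cons (x355_L5_1.tp c355_3 :) (AllM.cons ((x355_3.lam 257).e8 c355_4 :) (AllM.cons (x355_L517_1.tp c355_6 :) (AllM.cons ((x355_3.lam 769).e8 c355_7 :) AllM.nil))))) ((x355_3.weaken 1).ext2 (fun _ => rfl) GamS.nil AllS.nil c355_8 (Phs.fin (ct := ct355_8) rfl) (Phs.fin (ct := ct355_8) rfl)) :)
theorem x356 : AuxS.{u} (cM2r 1 0) s356 0 a356 := aux_base3 tw114 rfl b356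
theorem x356_1 : AuxS.{u} (cM2r 1 0) s356 0 a356_1 := (AuxS.up x356 c356_9 :)
theorem x356_2 : AuxS.{u} (cM2r 1 0) s356 0 a356_2 := (AuxS.up x356_1 c356_10 :)
theorem x356_3p : AuxS.{u} (cM2r 1 0) s356 0 a356_3p := (AuxS.up x356_2 c356_11 :)
theorem x356_3 : AuxS.{u} (cM2r 1 0) s356 0 a356_3 := (AuxS.up2 x356_3p c356_12 :)
theorem x356_L5_1 : AuxS.{u} (cM2r 1 0) s356 (5 + 2) a356_L5_1 := (AuxS.hp (x356_3.lam 5) c356_2 :)
theorem x356_L517_1 : AuxS.{u} (cM2r 1 0) s356 (517 + 2) a356_L517_1 := (AuxS.hp (x356_3.lam 517) c356_5 :)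
theorem n356 : Sound.{u} (cM2r 1 0) s356 0 :=
  (x356_3.spl c356_0 (AllM.cons ((x356_3.lam 0).tp c356_1 :) (AllM.cons (x356_L5_1.tp c356_3 :) (AllM.cons ((x356_3.lam 257).e8 c356_4 :) (AllM.cons (x356_L517_1.tp c356_6 :) (AllM.cons ((x356_3.lam 769).e8 c356_7 :) AllM.nil))))) ((x356_3.weaken 1).ext2 (fun _ => rfl) GamS.nil AllS.nil c356_8 (Phs.fin (ct := ct356_8) rfl) (Phs.fin (ct := ct356_8) rfl)) :)
theorem x357 : AuxS.{u} (cM2r 1 0) s357 0 a357 := aux_base3 tw115 rfl b357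
theorem x357_1 : AuxS.{u} (cM2r 1 0) s357 0 a357_1 := (AuxS.up x357 c357_9 :)
theorem x357_2 : AuxS.{u} (cM2r 1 0) s357 0 a357_2 := (AuxS.up x357_1 c357_10 :)
theorem x357_3 : AuxS.{u} (cM2r 1 0) s357 0 a357_3 := (AuxS.up2 x357_2 c357_11 :)
theorem x357_L5_1 : AuxS.{u} (cM2r 1 0) s357 (5 + 2) a357_L5_1 := (AuxS.hp (x357_3.lam 5) c357_2 :)
theorem x357_L517_1 : AuxS.{u} (cM2r 1 0) s357 (517 + 2) a357_L517_1 := (AuxS.hp (x357_3.lam 517) c357_5 :)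
theorem n357 : Sound.{u} (cM2r 1 0) s357 0 :=
  (x357_3.spl c357_0 (AllM.cons ((x357_3.lam 0).tp c357_1 :) (AllM.cons (x357_L5_1.tp c357_3 :) (AllM.cons ((x357_3.lam 257).e8 c357_4 :) (AllM.cons (x357_L517_1.tp c357_6 :) (AllM.cons ((x357_3.lam 769).e8 c357_7 :) AllM.nil))))) ((x357_3.weaken 1).ext2 (fun _ => rfl) GamS.nil AllS.nil c357_8 (Phs.fin (ct := ct357_8) rfl) (Phs.fin (ct := ct357_8) rfl)) :)
theorem x358 : AuxS.{u} (cM2r 1 0) s358 0 a358 := aux_base3 tw116 rfl b358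
theorem x358_1 : AuxS.{u} (cM2r 1 0) s358 0 a358_1 := (AuxS.up x358 c358_9 :)
theorem x358_2 : AuxS.{u} (cM2r 1 0) s358 0 a358_2 := (AuxS.up x358_1 c358_10 :)
theorem x358_3 : AuxS.{u} (cM2r 1 0) s358 0 a358_3 := (AuxS.up2 x358_2 c358_11 :)
theorem x358_L5_1 : AuxS.{u} (cM2r 1 0) s358 (5 + 2) a358_L5_1 := (AuxS.hp (x358_3.lam 5) c358_2 :)
theorem x358_L517_1 : AuxS.{u} (cM2r 1 0) s358 (517 + 2) a358_L517_1 := (AuxS.hp (x358_3.lam 517) c358_5 :)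
theorem n358 : Sound.{u} (cM2r 1 0) s358 0 :=
  (x358_3.spl c358_0 (AllM.cons ((x358_3.lam 0).tp c358_1 :) (AllM.cons (x358_L5_1.tp c358_3 :) (AllM.cons ((x358_3.lam 257).e8 c358_4 :) (AllM.cons (x358_L517_1.tp c358_6 :) (AllM.cons ((x358_3.lam 769).e8 c358_7 :) AllM.nil))))) ((x358_3.weaken 1).ext2 (fun _ => rfl) GamS.nil AllS.nil c358_8 (Phs.fin (ct := ct358_8) rfl) (Phs.fin (ct := ct358_8) rfl)) :)
theorem x359 : AuxS.{u} (cM2r 1 0) s359 0 a359 := aux_base3 tw117 rfl b359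
theorem x359_1 : AuxS.{u} (cM2r 1 0) s359 0 a359_1 := (AuxS.up x359 c359_9 :)
theorem x359_2 : AuxS.{u} (cM2r 1 0) s359 0 a359_2 := (AuxS.up x359_1 c359_10 :)
theorem x359_3p : AuxS.{u} (cM2r 1 0) s359 0 a359_3p := (AuxS.up x359_2 c359_11 :)
theorem x359_3 : AuxS.{u} (cM2r 1 0) s359 0 a359_3 := (AuxS.up2 x359_3p c359_12 :)
theorem x359_L5_1 : AuxS.{u} (cM2r 1 0) s359 (5 + 2) a359_L5_1 := (AuxS.hp (x359_3.lam 5) c359_2 :)
theorem x359_L517_1 : AuxS.{u} (cM2r 1 0) s359 (517 + 2) a359_L517_1 := (AuxS.hp (x359_3.lam 517) c359_5 :)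
theorem n359 : Sound.{u} (cM2r 1 0) s359 0 :=
  (x359_3.spl c359_0 (AllM.cons ((x359_3.lam 0).tp c359_1 :) (AllM.cons (x359_L5_1.tp c359_3 :) (AllM.cons ((x359_3.lam 257).e8 c359_4 :) (AllM.cons (x359_L517_1.tp c359_6 :) (AllM.cons ((x359_3.lam 769).e8 c359_7 :) AllM.nil))))) ((x359_3.weaken 1).ext2 (fun _ => rfl) GamS.nil AllS.nil c359_8 (Phs.fin (ct := ct359_8) rfl) (Phs.fin (ct := ct359_8) rfl)) :)
theorem x320 : AuxS.{u} (cM2r 1 0) s320 0 a320 := aux_base3 tw101 rfl b320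
theorem x320_1 : AuxS.{u} (cM2r 1 0) s320 0 a320_1 := (AuxS.up x320 c320_15 :)
theorem x320_2 : AuxS.{u} (cM2r 1 0) s320 0 a320_2 := (AuxS.up x320_1 c320_16 :)
theorem x320_3 : AuxS.{u} (cM2r 1 0) s320 0 a320_3 := (AuxS.up2 x320_2 c320_17 :)
theorem x320_L5_1 : AuxS.{u} (cM2r 1 0) s320 (5 + 2) a320_L5_1 := (AuxS.hp (x320_3.lam 5) c320_3 :)
theorem x320_L5_2 : AuxS.{u} (cM2r 1 0) s320 (5 + 2) a320_L5_2 := (AuxS.ne x320_L5_1 c320_4 :)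
theorem x320_L261_1 : AuxS.{u} (cM2r 1 0) s320 (261 + 2) a320_L261_1 := (AuxS.hp (x320_3.lam 261) c320_7 :)
theorem p320_9_1 : Phs s320 a320_3 [] [s352, s353, s354, s355, s356, s357, s358, s359] ct320_9 v320_9 5 w320_9_1 := (Phs.fin c320_9)
theorem p320_9_3 : Phs s320 a320_3 [] [s352, s353, s354, s355, s356, s357, s358, s359] ct320_9 v320_9 4 w320_9_3 := (Phs.stp c320_10 p320_9_1)
theorem p320_9_5 : Phs s320 a320_3 [] [s352, s353, s354, s355, s356, s357, s358, s359] ct320_9 v320_9 2 w320_9_5 := (Phs.stp c320_11 p320_9_3)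
theorem p320_9_7 : Phs s320 a320_3 [] [s352, s353, s354, s355, s356, s357, s358, s359] ct320_9 v320_9 1 w320_9_7 := (Phs.stp c320_12 p320_9_5)
theorem n320 : Sound.{u} (cM2r 1 0) s320 0 :=
  (x320_3.spl c320_0 (AllM.cons ((x320_3.lam 0).tp c320_1 :) (AllM.cons ((x320_3.lam 1).e8 c320_2 :) (AllM.cons (x320_L5_2.tp c320_5 :) (AllM.cons ((x320_3.lam 257).e8 c320_6 :) (AllM.cons (x320_L261_1.tp c320_8 :) AllM.nil))))) ((x320_3.weaken 1).ext2 (fun _ => rfl) GamS.nil (AllS.cons n352 (AllS.cons n353 (AllS.cons n354 (AllS.cons n355 (AllS.cons n356 (AllS.cons n357 (AllS.cons n358 (AllS.cons n359 AllS.nil)))))))) c320_14 (Phs.stp c320_13 p320_9_7) (Phs.fin (ct := ct320_9) rfl)) :)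
theorem x321 : AuxS.{u} (cM2r 1 0) s321 0 a321 := aux_base3 tw101 rfl b321
theorem n321 : Sound.{u} (cM2r 1 0) s321 0 :=
  (x321.k4 c321_0 :)
theorem x322 : AuxS.{u} (cM2r 1 0) s322 0 a322 := aux_base3 tw101 rfl b322
theorem n322 : Sound.{u} (cM2r 1 0) s322 0 :=
  (x322.k4 c322_0 :)
theorem x323 : AuxS.{u} (cM2r 1 0) s323 0 a323 := aux_base3 tw101 rfl b323
theorem n323 : Sound.{u} (cM2r 1 0) s323 0 :=
  (x323.k4 c323_0 :)
theorem x324 : AuxS.{u} (cM2r 1 0) s324 0 a324 := aux_base3 tw101 rfl b324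
theorem n324 : Sound.{u} (cM2r 1 0) s324 0 :=
  (x324.k4 c324_0 :)
theorem x325 : AuxS.{u} (cM2r 1 0) s325 0 a325 := aux_base3 tw101 rfl b325
theorem n325 : Sound.{u} (cM2r 1 0) s325 0 :=
  (x325.k4 c325_0 :)
theorem x326 : AuxS.{u} (cM2r 1 0) s326 0 a326 := aux_base3 tw101 rfl b326
theorem n326 : Sound.{u} (cM2r 1 0) s326 0 :=
  (x326.k4 c326_0 :)
theorem x327 : AuxS.{u} (cM2r 1 0) s327 0 a327 := aux_base3 tw101 rfl b327
theorem n327 : Sound.{u} (cM2r 1 0) s327 0 :=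
  (x327.k4 c327_0 :)
theorem x328 : AuxS.{u} (cM2r 1 0) s328 0 a328 := aux_base3 tw101 rfl b328
theorem n328 : Sound.{u} (cM2r 1 0) s328 0 :=
  (x328.k4 c328_0 :)
theorem x329 : AuxS.{u} (cM2r 1 0) s329 0 a329 := aux_base3 tw101 rfl b329
theorem n329 : Sound.{u} (cM2r 1 0) s329 0 :=
  (x329.k4 c329_0 :)
theorem x330 : AuxS.{u} (cM2r 1 0) s330 0 a330 := aux_base3 tw101 rfl b330
theorem n330 : Sound.{u} (cM2r 1 0) s330 0 :=
  (x330.k4 c330_0 :)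
theorem x331 : AuxS.{u} (cM2r 1 0) s331 0 a331 := aux_base3 tw101 rfl b331
theorem n331 : Sound.{u} (cM2r 1 0) s331 0 :=
  (x331.k4 c331_0 :)
theorem x332 : AuxS.{u} (cM2r 1 0) s332 0 a332 := aux_base3 tw101 rfl b332
theorem n332 : Sound.{u} (cM2r 1 0) s332 0 :=
  (x332.k4 c332_0 :)
theorem x333 : AuxS.{u} (cM2r 1 0) s333 0 a333 := aux_base3 tw101 rfl b333
theorem x333_1 : AuxS.{u} (cM2r 1 0) s333 0 a333_1 := x333
theorem x333_2 : AuxS.{u} (cM2r 1 0) s333 0 a333_2 := x333_1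
theorem x333_3 : AuxS.{u} (cM2r 1 0) s333 0 a333_3 := x333_2
theorem n333 : Sound.{u} (cM2r 1 0) s333 0 :=
  (x333_3.jump c333_0 c333_1 n320 :)
theorem x334 : AuxS.{u} (cM2r 1 0) s334 0 a334 := aux_base3 tw101 rfl b334
theorem n334 : Sound.{u} (cM2r 1 0) s334 0 :=
  (x334.k4 c334_0 :)
theorem x335 : AuxS.{u} (cM2r 1 0) s335 0 a335 := aux_base3 tw101 rfl b335
theorem n335 : Sound.{u} (cM2r 1 0) s335 0 :=
  (x335.k4 c335_0 :)
theorem x336 : AuxS.{u} (cM2r 1 0) s336 0 a336 := aux_base3 tw101 rfl b336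
theorem x336_1 : AuxS.{u} (cM2r 1 0) s336 0 a336_1 := x336
theorem x336_2 : AuxS.{u} (cM2r 1 0) s336 0 a336_2 := x336_1
theorem x336_3 : AuxS.{u} (cM2r 1 0) s336 0 a336_3 := x336_2
theorem n336 : Sound.{u} (cM2r 1 0) s336 0 :=
  (x336_3.jump c336_0 c336_1 n320 :)
theorem x337 : AuxS.{u} (cM2r 1 0) s337 0 a337 := aux_base3 tw101 rfl b337
theorem n337 : Sound.{u} (cM2r 1 0) s337 0 :=
  (x337.k4 c337_0 :)
theorem x338 : AuxS.{u} (cM2r 1 0) s338 0 a338 := aux_base3 tw101 rfl b338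
theorem n338 : Sound.{u} (cM2r 1 0) s338 0 :=
  (x338.k4 c338_0 :)
theorem x339 : AuxS.{u} (cM2r 1 0) s339 0 a339 := aux_base3 tw101 rfl b339
theorem n339 : Sound.{u} (cM2r 1 0) s339 0 :=
  (x339.k4 c339_0 :)
theorem x340 : AuxS.{u} (cM2r 1 0) s340 0 a340 := aux_base3 tw101 rfl b340
theorem n340 : Sound.{u} (cM2r 1 0) s340 0 :=
  (x340.k4 c340_0 :)
theorem x341 : AuxS.{u} (cM2r 1 0) s341 0 a341 := aux_base3 tw101 rfl b341
theorem n341 : Sound.{u} (cM2r 1 0) s341 0 :=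
  (x341.k4 c341_0 :)
theorem x342 : AuxS.{u} (cM2r 1 0) s342 0 a342 := aux_base3 tw101 rfl b342
theorem n342 : Sound.{u} (cM2r 1 0) s342 0 :=
  (x342.k4 c342_0 :)
theorem x343 : AuxS.{u} (cM2r 1 0) s343 0 a343 := aux_base3 tw101 rfl b343
theorem n343 : Sound.{u} (cM2r 1 0) s343 0 :=
  (x343.k4 c343_0 :)
theorem x344 : AuxS.{u} (cM2r 1 0) s344 0 a344 := aux_base3 tw101 rfl b344
theorem n344 : Sound.{u} (cM2r 1 0) s344 0 :=
  (x344.k4 c344_0 :)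
theorem x345 : AuxS.{u} (cM2r 1 0) s345 0 a345 := aux_base3 tw101 rfl b345
theorem n345 : Sound.{u} (cM2r 1 0) s345 0 :=
  (x345.k4 c345_0 :)
theorem x346 : AuxS.{u} (cM2r 1 0) s346 0 a346 := aux_base3 tw101 rfl b346
theorem n346 : Sound.{u} (cM2r 1 0) s346 0 :=
  (x346.k4 c346_0 :)
theorem x347 : AuxS.{u} (cM2r 1 0) s347 0 a347 := aux_base3 tw101 rfl b347
theorem n347 : Sound.{u} (cM2r 1 0) s347 0 :=
  (x347.k4 c347_0 :)
theorem x348 : AuxS.{u} (cM2r 1 0) s348 0 a348 := aux_base3 tw101 rfl b348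
theorem n348 : Sound.{u} (cM2r 1 0) s348 0 :=
  (x348.k4 c348_0 :)
theorem x349 : AuxS.{u} (cM2r 1 0) s349 0 a349 := aux_base3 tw101 rfl b349
theorem x349_1 : AuxS.{u} (cM2r 1 0) s349 0 a349_1 := x349
theorem x349_2 : AuxS.{u} (cM2r 1 0) s349 0 a349_2 := x349_1
theorem x349_3 : AuxS.{u} (cM2r 1 0) s349 0 a349_3 := x349_2
theorem n349 : Sound.{u} (cM2r 1 0) s349 0 :=
  (x349_3.jump c349_0 c349_1 n320 :)
theorem x350 : AuxS.{u} (cM2r 1 0) s350 0 a350 := aux_base3 tw101 rfl b350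
theorem n350 : Sound.{u} (cM2r 1 0) s350 0 :=
  (x350.k4 c350_0 :)
theorem x351 : AuxS.{u} (cM2r 1 0) s351 0 a351 := aux_base3 tw101 rfl b351
theorem n351 : Sound.{u} (cM2r 1 0) s351 0 :=
  (x351.k4 c351_0 :)
theorem x277 : AuxS.{u} (cM2r 1 0) s277 0 a277 := aux_base3 tw101 rfl b277
theorem x277_1 : AuxS.{u} (cM2r 1 0) s277 0 a277_1 := x277
theorem x277_2 : AuxS.{u} (cM2r 1 0) s277 0 a277_2 := x277_1
theorem x277_3 : AuxS.{u} (cM2r 1 0) s277 0 a277_3 := x277_2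
theorem n277 : Sound.{u} (cM2r 1 0) s277 0 :=
  (x277_3.fr GamS.nil (AllS.cons n320 (AllS.cons n321 (AllS.cons n322 (AllS.cons n323 (AllS.cons n324 (AllS.cons n325 (AllS.cons n326 (AllS.cons n327 (AllS.cons n328 (AllS.cons n329 (AllS.cons n330 (AllS.cons n331 (AllS.cons n332 (AllS.cons n333 (AllS.cons n334 (AllS.cons n335 (AllS.cons n336 (AllS.cons n337 (AllS.cons n338 (AllS.cons n339 (AllS.cons n340 (AllS.cons n341 (AllS.cons n342 (AllS.cons n343 (AllS.cons n344 (AllS.cons n345 (AllS.cons n346 (AllS.cons n347 (AllS.cons n348 (AllS.cons n349 (AllS.cons n350 (AllS.cons n351 AllS.nil)))))))))))))))))))))))))))))))) c277_0 :)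
theorem x278 : AuxS.{u} (cM2r 1 0) s278 0 a278 := aux_base3 tw101 rfl b278
theorem x278_1 : AuxS.{u} (cM2r 1 0) s278 0 a278_1 := x278
theorem x278_2 : AuxS.{u} (cM2r 1 0) s278 0 a278_2 := x278_1
theorem x278_3 : AuxS.{u} (cM2r 1 0) s278 0 a278_3 := x278_2
theorem n278 : Sound.{u} (cM2r 1 0) s278 0 :=
  (x278_3.jump c278_0 c278_1 n276 :)
theorem x279 : AuxS.{u} (cM2r 1 0) s279 0 a279 := aux_base3 tw101 rfl b279
theorem x279_1 : AuxS.{u} (cM2r 1 0) s279 0 a279_1 := x279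
theorem x279_2 : AuxS.{u} (cM2r 1 0) s279 0 a279_2 := x279_1
theorem x279_3 : AuxS.{u} (cM2r 1 0) s279 0 a279_3 := x279_2
theorem n279 : Sound.{u} (cM2r 1 0) s279 0 :=
  (x279_3.jump c279_0 c279_1 n277 :)
theorem x275 : AuxS.{u} (cM2r 1 0) s275 0 a275 := aux_base3 tw101 rfl b275
theorem x275_1 : AuxS.{u} (cM2r 1 0) s275 0 a275_1 := x275
theorem x275_2 : AuxS.{u} (cM2r 1 0) s275 0 a275_2 := x275_1
theorem x275_3 : AuxS.{u} (cM2r 1 0) s275 0 a275_3 := x275_2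
theorem n275 : Sound.{u} (cM2r 1 0) s275 0 :=
  (x275_3.rho (AllS.cons n276 (AllS.cons n277 (AllS.cons n278 (AllS.cons n279 AllS.nil)))) c275_0 :)
theorem x259 : AuxS.{u} (cM2r 1 0) s259 0 a259 := aux_base3 tw85 rfl b259
theorem x259_1 : AuxS.{u} (cM2r 1 0) s259 0 a259_1 := x259
theorem x259_2 : AuxS.{u} (cM2r 1 0) s259 0 a259_2 := x259_1
theorem x259_3 : AuxS.{u} (cM2r 1 0) s259 0 a259_3 := x259_2
theorem n259 : Sound.{u} (cM2r 1 0) s259 0 :=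
  (x259_3.fr2 (AuxS.gam x259_3 c259_0) (AllS.cons n275 AllS.nil) c259_1 :)
theorem x260 : AuxS.{u} (cM2r 1 0) s260 0 a260 := aux_base3 tw86 rfl b260
theorem x260_1 : AuxS.{u} (cM2r 1 0) s260 0 a260_1 := x260
theorem x260_2 : AuxS.{u} (cM2r 1 0) s260 0 a260_2 := x260_1
theorem n260 : Sound.{u} (cM2r 1 0) s260 0 :=
  (x260_2.fr2 GamS.nil AllS.nil c260_0 :)
theorem x261 : AuxS.{u} (cM2r 1 0) s261 0 a261 := aux_base3 tw87 rfl b261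
theorem x261_1 : AuxS.{u} (cM2r 1 0) s261 0 a261_1 := x261
theorem x261_2 : AuxS.{u} (cM2r 1 0) s261 0 a261_2 := x261_1
theorem n261 : Sound.{u} (cM2r 1 0) s261 0 :=
  (x261_2.fr2 GamS.nil AllS.nil c261_0 :)
theorem x262 : AuxS.{u} (cM2r 1 0) s262 0 a262 := aux_base3 tw88 rfl b262
theorem x262_1 : AuxS.{u} (cM2r 1 0) s262 0 a262_1 := x262
theorem x262_2 : AuxS.{u} (cM2r 1 0) s262 0 a262_2 := x262_1
theorem n262 : Sound.{u} (cM2r 1 0) s262 0 :=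
  (x262_2.fr2 GamS.nil AllS.nil c262_0 :)
theorem x263 : AuxS.{u} (cM2r 1 0) s263 0 a263 := aux_base3 tw89 rfl b263
theorem x263_1 : AuxS.{u} (cM2r 1 0) s263 0 a263_1 := x263
theorem x263_2 : AuxS.{u} (cM2r 1 0) s263 0 a263_2 := x263_1
theorem x263_3 : AuxS.{u} (cM2r 1 0) s263 0 a263_3 := x263_2
theorem n263 : Sound.{u} (cM2r 1 0) s263 0 :=
  (x263_3.fr2 GamS.nil AllS.nil c263_0 :)
theorem x365 : AuxS.{u} (cM2r 1 0) s365 0 a365 := aux_base3 tw118 rfl b365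
theorem x365_1 : AuxS.{u} (cM2r 1 0) s365 0 a365_1 := (AuxS.up x365 c365_9 :)
theorem x365_2 : AuxS.{u} (cM2r 1 0) s365 0 a365_2 := (AuxS.up x365_1 c365_10 :)
theorem x365_3 : AuxS.{u} (cM2r 1 0) s365 0 a365_3 := (AuxS.up2 x365_2 c365_11 :)
theorem x365_L5_1 : AuxS.{u} (cM2r 1 0) s365 (5 + 2) a365_L5_1 := (AuxS.hp (x365_3.lam 5) c365_3 :)
theorem x365_L261_1 : AuxS.{u} (cM2r 1 0) s365 (261 + 2) a365_L261_1 := (AuxS.hp (x365_3.lam 261) c365_6 :)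
theorem n365 : Sound.{u} (cM2r 1 0) s365 0 :=
  (x365_3.spl c365_0 (AllM.cons ((x365_3.lam 0).tp c365_1 :) (AllM.cons ((x365_3.lam 1).e8 c365_2 :) (AllM.cons (x365_L5_1.tp c365_4 :) (AllM.cons ((x365_3.lam 257).e8 c365_5 :) (AllM.cons (x365_L261_1.tp c365_7 :) AllM.nil))))) ((x365_3.weaken 1).ext2 (fun _ => rfl) GamS.nil AllS.nil c365_8 (Phs.fin (ct := ct365_8) rfl) (Phs.fin (ct := ct365_8) rfl)) :)
theorem x366 : AuxS.{u} (cM2r 1 0) s366 0 a366 := aux_base3 tw118 rfl b366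
theorem n366 : Sound.{u} (cM2r 1 0) s366 0 :=
  (x366.k4 c366_0 :)
theorem x367 : AuxS.{u} (cM2r 1 0) s367 0 a367 := aux_base3 tw118 rfl b367
theorem n367 : Sound.{u} (cM2r 1 0) s367 0 :=
  (x367.k4 c367_0 :)
theorem x368 : AuxS.{u} (cM2r 1 0) s368 0 a368 := aux_base3 tw118 rfl b368
theorem n368 : Sound.{u} (cM2r 1 0) s368 0 :=
  (x368.k4 c368_0 :)
theorem x369 : AuxS.{u} (cM2r 1 0) s369 0 a369 := aux_base3 tw118 rfl b369
theorem n369 : Sound.{u} (cM2r 1 0) s369 0 :=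
  (x369.k4 c369_0 :)
theorem x370 : AuxS.{u} (cM2r 1 0) s370 0 a370 := aux_base3 tw118 rfl b370
theorem n370 : Sound.{u} (cM2r 1 0) s370 0 :=
  (x370.k4 c370_0 :)
theorem x371 : AuxS.{u} (cM2r 1 0) s371 0 a371 := aux_base3 tw118 rfl b371
theorem n371 : Sound.{u} (cM2r 1 0) s371 0 :=
  (x371.k4 c371_0 :)
theorem x372 : AuxS.{u} (cM2r 1 0) s372 0 a372 := aux_base3 tw118 rfl b372
theorem n372 : Sound.{u} (cM2r 1 0) s372 0 :=
  (x372.k4 c372_0 :)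
theorem x373 : AuxS.{u} (cM2r 1 0) s373 0 a373 := aux_base3 tw118 rfl b373
theorem n373 : Sound.{u} (cM2r 1 0) s373 0 :=
  (x373.k4 c373_0 :)
theorem x374 : AuxS.{u} (cM2r 1 0) s374 0 a374 := aux_base3 tw118 rfl b374
theorem n374 : Sound.{u} (cM2r 1 0) s374 0 :=
  (x374.k4 c374_0 :)
theorem x375 : AuxS.{u} (cM2r 1 0) s375 0 a375 := aux_base3 tw118 rfl b375
theorem n375 : Sound.{u} (cM2r 1 0) s375 0 :=
  (x375.k4 c375_0 :)
theorem x376 : AuxS.{u} (cM2r 1 0) s376 0 a376 := aux_base3 tw118 rfl b376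
theorem n376 : Sound.{u} (cM2r 1 0) s376 0 :=
  (x376.k4 c376_0 :)
theorem x377 : AuxS.{u} (cM2r 1 0) s377 0 a377 := aux_base3 tw118 rfl b377
theorem n377 : Sound.{u} (cM2r 1 0) s377 0 :=
  (x377.k4 c377_0 :)
theorem x378 : AuxS.{u} (cM2r 1 0) s378 0 a378 := aux_base3 tw118 rfl b378
theorem x378_1 : AuxS.{u} (cM2r 1 0) s378 0 a378_1 := x378
theorem x378_2 : AuxS.{u} (cM2r 1 0) s378 0 a378_2 := x378_1
theorem x378_3 : AuxS.{u} (cM2r 1 0) s378 0 a378_3 := x378_2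
theorem n378 : Sound.{u} (cM2r 1 0) s378 0 :=
  (x378_3.jump c378_0 c378_1 n365 :)
theorem x379 : AuxS.{u} (cM2r 1 0) s379 0 a379 := aux_base3 tw118 rfl b379
theorem n379 : Sound.{u} (cM2r 1 0) s379 0 :=
  (x379.k4 c379_0 :)
theorem x380 : AuxS.{u} (cM2r 1 0) s380 0 a380 := aux_base3 tw118 rfl b380
theorem n380 : Sound.{u} (cM2r 1 0) s380 0 :=
  (x380.k4 c380_0 :)
theorem x381 : AuxS.{u} (cM2r 1 0) s381 0 a381 := aux_base3 tw118 rfl b381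
theorem x381_1 : AuxS.{u} (cM2r 1 0) s381 0 a381_1 := x381
theorem x381_2 : AuxS.{u} (cM2r 1 0) s381 0 a381_2 := x381_1
theorem x381_3 : AuxS.{u} (cM2r 1 0) s381 0 a381_3 := x381_2
theorem n381 : Sound.{u} (cM2r 1 0) s381 0 :=
  (x381_3.jump c381_0 c381_1 n365 :)
theorem x382 : AuxS.{u} (cM2r 1 0) s382 0 a382 := aux_base3 tw118 rfl b382
theorem n382 : Sound.{u} (cM2r 1 0) s382 0 :=
  (x382.k4 c382_0 :)
theorem x383 : AuxS.{u} (cM2r 1 0) s383 0 a383 := aux_base3 tw118 rfl b383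
theorem n383 : Sound.{u} (cM2r 1 0) s383 0 :=
  (x383.k4 c383_0 :)
theorem x384 : AuxS.{u} (cM2r 1 0) s384 0 a384 := aux_base3 tw118 rfl b384
theorem n384 : Sound.{u} (cM2r 1 0) s384 0 :=
  (x384.k4 c384_0 :)
theorem x385 : AuxS.{u} (cM2r 1 0) s385 0 a385 := aux_base3 tw118 rfl b385
theorem n385 : Sound.{u} (cM2r 1 0) s385 0 :=
  (x385.k4 c385_0 :)
theorem x386 : AuxS.{u} (cM2r 1 0) s386 0 a386 := aux_base3 tw118 rfl b386
theorem n386 : Sound.{u} (cM2r 1 0) s386 0 :=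
  (x386.k4 c386_0 :)
theorem x387 : AuxS.{u} (cM2r 1 0) s387 0 a387 := aux_base3 tw118 rfl b387
theorem n387 : Sound.{u} (cM2r 1 0) s387 0 :=
  (x387.k4 c387_0 :)
theorem x388 : AuxS.{u} (cM2r 1 0) s388 0 a388 := aux_base3 tw118 rfl b388
theorem n388 : Sound.{u} (cM2r 1 0) s388 0 :=
  (x388.k4 c388_0 :)
theorem x389 : AuxS.{u} (cM2r 1 0) s389 0 a389 := aux_base3 tw118 rfl b389
theorem n389 : Sound.{u} (cM2r 1 0) s389 0 :=
  (x389.k4 c389_0 :)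
theorem x390 : AuxS.{u} (cM2r 1 0) s390 0 a390 := aux_base3 tw118 rfl b390
theorem n390 : Sound.{u} (cM2r 1 0) s390 0 :=
  (x390.k4 c390_0 :)
theorem x391 : AuxS.{u} (cM2r 1 0) s391 0 a391 := aux_base3 tw118 rfl b391
theorem n391 : Sound.{u} (cM2r 1 0) s391 0 :=
  (x391.k4 c391_0 :)
theorem x392 : AuxS.{u} (cM2r 1 0) s392 0 a392 := aux_base3 tw118 rfl b392
theorem n392 : Sound.{u} (cM2r 1 0) s392 0 :=
  (x392.k4 c392_0 :)
theorem x393 : AuxS.{u} (cM2r 1 0) s393 0 a393 := aux_base3 tw118 rfl b393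
theorem n393 : Sound.{u} (cM2r 1 0) s393 0 :=
  (x393.k4 c393_0 :)
theorem x394 : AuxS.{u} (cM2r 1 0) s394 0 a394 := aux_base3 tw118 rfl b394
theorem x394_1 : AuxS.{u} (cM2r 1 0) s394 0 a394_1 := x394
theorem x394_2 : AuxS.{u} (cM2r 1 0) s394 0 a394_2 := x394_1
theorem x394_3 : AuxS.{u} (cM2r 1 0) s394 0 a394_3 := x394_2
theorem n394 : Sound.{u} (cM2r 1 0) s394 0 :=
  (x394_3.jump c394_0 c394_1 n365 :)
theorem x395 : AuxS.{u} (cM2r 1 0) s395 0 a395 := aux_base3 tw118 rfl b395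
theorem n395 : Sound.{u} (cM2r 1 0) s395 0 :=
  (x395.k4 c395_0 :)
theorem x396 : AuxS.{u} (cM2r 1 0) s396 0 a396 := aux_base3 tw118 rfl b396
theorem n396 : Sound.{u} (cM2r 1 0) s396 0 :=
  (x396.k4 c396_0 :)
theorem x361 : AuxS.{u} (cM2r 1 0) s361 0 a361 := aux_base3 tw118 rfl b361
theorem x361_1 : AuxS.{u} (cM2r 1 0) s361 0 a361_1 := x361
theorem x361_2 : AuxS.{u} (cM2r 1 0) s361 0 a361_2 := x361_1
theorem x361_3 : AuxS.{u} (cM2r 1 0) s361 0 a361_3 := x361_2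
theorem n361 : Sound.{u} (cM2r 1 0) s361 0 :=
  (x361_3.fr GamS.nil (AllS.cons n365 (AllS.cons n366 (AllS.cons n367 (AllS.cons n368 (AllS.cons n369 (AllS.cons n370 (AllS.cons n371 (AllS.cons n372 (AllS.cons n373 (AllS.cons n374 (AllS.cons n375 (AllS.cons n376 (AllS.cons n377 (AllS.cons n378 (AllS.cons n379 (AllS.cons n380 (AllS.cons n381 (AllS.cons n382 (AllS.cons n383 (AllS.cons n384 (AllS.cons n385 (AllS.cons n386 (AllS.cons n387 (AllS.cons n388 (AllS.cons n389 (AllS.cons n390 (AllS.cons n391 (AllS.cons n392 (AllS.cons n393 (AllS.cons n394 (AllS.cons n395 (AllS.cons n396 AllS.nil)))))))))))))))))))))))))))))))) c361_0 :)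
theorem x397 : AuxS.{u} (cM2r 1 0) s397 0 a397 := aux_base3 tw118 rfl b397
theorem x397_1 : AuxS.{u} (cM2r 1 0) s397 0 a397_1 := (AuxS.up x397 c397_9 :)
theorem x397_2 : AuxS.{u} (cM2r 1 0) s397 0 a397_2 := (AuxS.up x397_1 c397_10 :)
theorem x397_3 : AuxS.{u} (cM2r 1 0) s397 0 a397_3 := (AuxS.up2 x397_2 c397_11 :)
theorem x397_L5_1 : AuxS.{u} (cM2r 1 0) s397 (5 + 2) a397_L5_1 := (AuxS.hp (x397_3.lam 5) c397_3 :)
theorem x397_L261_1 : AuxS.{u} (cM2r 1 0) s397 (261 + 2) a397_L261_1 := (AuxS.hp (x397_3.lam 261) c397_6 :)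
theorem n397 : Sound.{u} (cM2r 1 0) s397 0 :=
  (x397_3.spl c397_0 (AllM.cons ((x397_3.lam 0).tp c397_1 :) (AllM.cons ((x397_3.lam 1).e8 c397_2 :) (AllM.cons (x397_L5_1.tp c397_4 :) (AllM.cons ((x397_3.lam 257).e8 c397_5 :) (AllM.cons (x397_L261_1.tp c397_7 :) AllM.nil))))) ((x397_3.weaken 1).ext2 (fun _ => rfl) GamS.nil AllS.nil c397_8 (Phs.fin (ct := ct397_8) rfl) (Phs.fin (ct := ct397_8) rfl)) :)
theorem x398 : AuxS.{u} (cM2r 1 0) s398 0 a398 := aux_base3 tw118 rfl b398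
theorem n398 : Sound.{u} (cM2r 1 0) s398 0 :=
  (x398.k4 c398_0 :)
theorem x399 : AuxS.{u} (cM2r 1 0) s399 0 a399 := aux_base3 tw118 rfl b399
theorem n399 : Sound.{u} (cM2r 1 0) s399 0 :=
  (x399.k4 c399_0 :)
theorem x400 : AuxS.{u} (cM2r 1 0) s400 0 a400 := aux_base3 tw118 rfl b400
theorem n400 : Sound.{u} (cM2r 1 0) s400 0 :=
  (x400.k4 c400_0 :)
theorem x401 : AuxS.{u} (cM2r 1 0) s401 0 a401 := aux_base3 tw118 rfl b401
theorem n401 : Sound.{u} (cM2r 1 0) s401 0 :=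
  (x401.k4 c401_0 :)
theorem x402 : AuxS.{u} (cM2r 1 0) s402 0 a402 := aux_base3 tw118 rfl b402
theorem n402 : Sound.{u} (cM2r 1 0) s402 0 :=
  (x402.k4 c402_0 :)
theorem x403 : AuxS.{u} (cM2r 1 0) s403 0 a403 := aux_base3 tw118 rfl b403
theorem n403 : Sound.{u} (cM2r 1 0) s403 0 :=
  (x403.k4 c403_0 :)
theorem x404 : AuxS.{u} (cM2r 1 0) s404 0 a404 := aux_base3 tw118 rfl b404
theorem n404 : Sound.{u} (cM2r 1 0) s404 0 :=
  (x404.k4 c404_0 :)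
theorem x405 : AuxS.{u} (cM2r 1 0) s405 0 a405 := aux_base3 tw118 rfl b405
theorem n405 : Sound.{u} (cM2r 1 0) s405 0 :=
  (x405.k4 c405_0 :)
theorem x406 : AuxS.{u} (cM2r 1 0) s406 0 a406 := aux_base3 tw118 rfl b406
theorem n406 : Sound.{u} (cM2r 1 0) s406 0 :=
  (x406.k4 c406_0 :)
theorem x407 : AuxS.{u} (cM2r 1 0) s407 0 a407 := aux_base3 tw118 rfl b407
theorem n407 : Sound.{u} (cM2r 1 0) s407 0 :=
  (x407.k4 c407_0 :)
theorem x408 : AuxS.{u} (cM2r 1 0) s408 0 a408 := aux_base3 tw118 rfl b408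
theorem n408 : Sound.{u} (cM2r 1 0) s408 0 :=
  (x408.k4 c408_0 :)
theorem x409 : AuxS.{u} (cM2r 1 0) s409 0 a409 := aux_base3 tw118 rfl b409
theorem n409 : Sound.{u} (cM2r 1 0) s409 0 :=
  (x409.k4 c409_0 :)
theorem x410 : AuxS.{u} (cM2r 1 0) s410 0 a410 := aux_base3 tw118 rfl b410
theorem x410_1 : AuxS.{u} (cM2r 1 0) s410 0 a410_1 := x410
theorem x410_2 : AuxS.{u} (cM2r 1 0) s410 0 a410_2 := x410_1
theorem x410_3 : AuxS.{u} (cM2r 1 0) s410 0 a410_3 := x410_2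
theorem n410 : Sound.{u} (cM2r 1 0) s410 0 :=
  (x410_3.jump c410_0 c410_1 n397 :)
theorem x411 : AuxS.{u} (cM2r 1 0) s411 0 a411 := aux_base3 tw118 rfl b411
theorem n411 : Sound.{u} (cM2r 1 0) s411 0 :=
  (x411.k4 c411_0 :)
theorem x412 : AuxS.{u} (cM2r 1 0) s412 0 a412 := aux_base3 tw118 rfl b412
theorem n412 : Sound.{u} (cM2r 1 0) s412 0 :=
  (x412.k4 c412_0 :)
theorem x413 : AuxS.{u} (cM2r 1 0) s413 0 a413 := aux_base3 tw118 rfl b413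
theorem x413_1 : AuxS.{u} (cM2r 1 0) s413 0 a413_1 := x413
theorem x413_2 : AuxS.{u} (cM2r 1 0) s413 0 a413_2 := x413_1
theorem x413_3 : AuxS.{u} (cM2r 1 0) s413 0 a413_3 := x413_2
theorem n413 : Sound.{u} (cM2r 1 0) s413 0 :=
  (x413_3.jump c413_0 c413_1 n397 :)
theorem x414 : AuxS.{u} (cM2r 1 0) s414 0 a414 := aux_base3 tw118 rfl b414
theorem n414 : Sound.{u} (cM2r 1 0) s414 0 :=
  (x414.k4 c414_0 :)
theorem x415 : AuxS.{u} (cM2r 1 0) s415 0 a415 := aux_base3 tw118 rfl b415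
theorem n415 : Sound.{u} (cM2r 1 0) s415 0 :=
  (x415.k4 c415_0 :)
theorem x416 : AuxS.{u} (cM2r 1 0) s416 0 a416 := aux_base3 tw118 rfl b416
theorem n416 : Sound.{u} (cM2r 1 0) s416 0 :=
  (x416.k4 c416_0 :)
theorem x417 : AuxS.{u} (cM2r 1 0) s417 0 a417 := aux_base3 tw118 rfl b417
theorem n417 : Sound.{u} (cM2r 1 0) s417 0 :=
  (x417.k4 c417_0 :)
theorem x418 : AuxS.{u} (cM2r 1 0) s418 0 a418 := aux_base3 tw118 rfl b418
theorem n418 : Sound.{u} (cM2r 1 0) s418 0 :=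
  (x418.k4 c418_0 :)
theorem x419 : AuxS.{u} (cM2r 1 0) s419 0 a419 := aux_base3 tw118 rfl b419
theorem n419 : Sound.{u} (cM2r 1 0) s419 0 :=
  (x419.k4 c419_0 :)
theorem x420 : AuxS.{u} (cM2r 1 0) s420 0 a420 := aux_base3 tw118 rfl b420
theorem n420 : Sound.{u} (cM2r 1 0) s420 0 :=
  (x420.k4 c420_0 :)
theorem x421 : AuxS.{u} (cM2r 1 0) s421 0 a421 := aux_base3 tw118 rfl b421
theorem n421 : Sound.{u} (cM2r 1 0) s421 0 :=
  (x421.k4 c421_0 :)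
theorem x422 : AuxS.{u} (cM2r 1 0) s422 0 a422 := aux_base3 tw118 rfl b422
theorem n422 : Sound.{u} (cM2r 1 0) s422 0 :=
  (x422.k4 c422_0 :)
theorem x423 : AuxS.{u} (cM2r 1 0) s423 0 a423 := aux_base3 tw118 rfl b423
theorem n423 : Sound.{u} (cM2r 1 0) s423 0 :=
  (x423.k4 c423_0 :)
theorem x424 : AuxS.{u} (cM2r 1 0) s424 0 a424 := aux_base3 tw118 rfl b424
theorem n424 : Sound.{u} (cM2r 1 0) s424 0 :=
  (x424.k4 c424_0 :)
theorem x425 : AuxS.{u} (cM2r 1 0) s425 0 a425 := aux_base3 tw118 rfl b425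
theorem n425 : Sound.{u} (cM2r 1 0) s425 0 :=
  (x425.k4 c425_0 :)
theorem x426 : AuxS.{u} (cM2r 1 0) s426 0 a426 := aux_base3 tw118 rfl b426
theorem x426_1 : AuxS.{u} (cM2r 1 0) s426 0 a426_1 := x426
theorem x426_2 : AuxS.{u} (cM2r 1 0) s426 0 a426_2 := x426_1
theorem x426_3 : AuxS.{u} (cM2r 1 0) s426 0 a426_3 := x426_2
theorem n426 : Sound.{u} (cM2r 1 0) s426 0 :=
  (x426_3.jump c426_0 c426_1 n397 :)
theorem x427 : AuxS.{u} (cM2r 1 0) s427 0 a427 := aux_base3 tw118 rfl b427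
theorem n427 : Sound.{u} (cM2r 1 0) s427 0 :=
  (x427.k4 c427_0 :)
theorem x428 : AuxS.{u} (cM2r 1 0) s428 0 a428 := aux_base3 tw118 rfl b428
theorem n428 : Sound.{u} (cM2r 1 0) s428 0 :=
  (x428.k4 c428_0 :)
theorem x362 : AuxS.{u} (cM2r 1 0) s362 0 a362 := aux_base3 tw118 rfl b362
theorem x362_1 : AuxS.{u} (cM2r 1 0) s362 0 a362_1 := x362
theorem x362_2 : AuxS.{u} (cM2r 1 0) s362 0 a362_2 := x362_1
theorem x362_3 : AuxS.{u} (cM2r 1 0) s362 0 a362_3 := x362_2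
theorem n362 : Sound.{u} (cM2r 1 0) s362 0 :=
  (x362_3.fr GamS.nil (AllS.cons n397 (AllS.cons n398 (AllS.cons n399 (AllS.cons n400 (AllS.cons n401 (AllS.cons n402 (AllS.cons n403 (AllS.cons n404 (AllS.cons n405 (AllS.cons n406 (AllS.cons n407 (AllS.cons n408 (AllS.cons n409 (AllS.cons n410 (AllS.cons n411 (AllS.cons n412 (AllS.cons n413 (AllS.cons n414 (AllS.cons n415 (AllS.cons n416 (AllS.cons n417 (AllS.cons n418 (AllS.cons n419 (AllS.cons n420 (AllS.cons n421 (AllS.cons n422 (AllS.cons n423 (AllS.cons n424 (AllS.cons n425 (AllS.cons n426 (AllS.cons n427 (AllS.cons n428 AllS.nil)))))))))))))))))))))))))))))))) c362_0 :)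
theorem x363 : AuxS.{u} (cM2r 1 0) s363 0 a363 := aux_base3 tw118 rfl b363
theorem x363_1 : AuxS.{u} (cM2r 1 0) s363 0 a363_1 := x363
theorem x363_2 : AuxS.{u} (cM2r 1 0) s363 0 a363_2 := x363_1
theorem x363_3 : AuxS.{u} (cM2r 1 0) s363 0 a363_3 := x363_2
theorem n363 : Sound.{u} (cM2r 1 0) s363 0 :=
  (x363_3.jump c363_0 c363_1 n361 :)
theorem x364 : AuxS.{u} (cM2r 1 0) s364 0 a364 := aux_base3 tw118 rfl b364
theorem x364_1 : AuxS.{u} (cM2r 1 0) s364 0 a364_1 := x364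
theorem x364_2 : AuxS.{u} (cM2r 1 0) s364 0 a364_2 := x364_1
theorem x364_3 : AuxS.{u} (cM2r 1 0) s364 0 a364_3 := x364_2
theorem n364 : Sound.{u} (cM2r 1 0) s364 0 :=
  (x364_3.jump c364_0 c364_1 n362 :)
theorem x360 : AuxS.{u} (cM2r 1 0) s360 0 a360 := aux_base3 tw118 rfl b360
theorem x360_1 : AuxS.{u} (cM2r 1 0) s360 0 a360_1 := x360
theorem x360_2 : AuxS.{u} (cM2r 1 0) s360 0 a360_2 := x360_1
theorem x360_3 : AuxS.{u} (cM2r 1 0) s360 0 a360_3 := x360_2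
theorem n360 : Sound.{u} (cM2r 1 0) s360 0 :=
  (x360_3.rho (AllS.cons n361 (AllS.cons n362 (AllS.cons n363 (AllS.cons n364 AllS.nil)))) c360_0 :)
theorem x264 : AuxS.{u} (cM2r 1 0) s264 0 a264 := aux_base3 tw90 rfl b264
theorem x264_1 : AuxS.{u} (cM2r 1 0) s264 0 a264_1 := x264
theorem x264_2 : AuxS.{u} (cM2r 1 0) s264 0 a264_2 := x264_1
theorem x264_3 : AuxS.{u} (cM2r 1 0) s264 0 a264_3 := x264_2
theorem n264 : Sound.{u} (cM2r 1 0) s264 0 :=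
  (x264_3.fr2 (AuxS.gam x264_3 c264_0) (AllS.cons n360 AllS.nil) c264_1 :)
theorem x265 : AuxS.{u} (cM2r 1 0) s265 0 a265 := aux_base3 tw91 rfl b265
theorem x265_1 : AuxS.{u} (cM2r 1 0) s265 0 a265_1 := x265
theorem x265_2 : AuxS.{u} (cM2r 1 0) s265 0 a265_2 := x265_1
theorem n265 : Sound.{u} (cM2r 1 0) s265 0 :=
  (x265_2.fr2 GamS.nil AllS.nil c265_0 :)
theorem x266 : AuxS.{u} (cM2r 1 0) s266 0 a266 := aux_base3 tw92 rfl b266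
theorem x266_1 : AuxS.{u} (cM2r 1 0) s266 0 a266_1 := x266
theorem x266_2 : AuxS.{u} (cM2r 1 0) s266 0 a266_2 := x266_1
theorem n266 : Sound.{u} (cM2r 1 0) s266 0 :=
  (x266_2.fr2 GamS.nil AllS.nil c266_0 :)
theorem x267 : AuxS.{u} (cM2r 1 0) s267 0 a267 := aux_base3 tw93 rfl b267
theorem x267_1 : AuxS.{u} (cM2r 1 0) s267 0 a267_1 := x267
theorem x267_2 : AuxS.{u} (cM2r 1 0) s267 0 a267_2 := x267_1
theorem n267 : Sound.{u} (cM2r 1 0) s267 0 :=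
  (x267_2.fr2 GamS.nil AllS.nil c267_0 :)
theorem x268 : AuxS.{u} (cM2r 1 0) s268 0 a268 := aux_base3 tw94 rfl b268
theorem x268_1 : AuxS.{u} (cM2r 1 0) s268 0 a268_1 := x268
theorem x268_2 : AuxS.{u} (cM2r 1 0) s268 0 a268_2 := x268_1
theorem n268 : Sound.{u} (cM2r 1 0) s268 0 :=
  (x268_2.fr2 GamS.nil AllS.nil c268_0 :)
theorem x269 : AuxS.{u} (cM2r 1 0) s269 0 a269 := aux_base3 tw95 rfl b269
theorem x269_1 : AuxS.{u} (cM2r 1 0) s269 0 a269_1 := x269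
theorem x269_2 : AuxS.{u} (cM2r 1 0) s269 0 a269_2 := x269_1
theorem x269_3 : AuxS.{u} (cM2r 1 0) s269 0 a269_3 := x269_2
theorem n269 : Sound.{u} (cM2r 1 0) s269 0 :=
  (x269_3.fr2 GamS.nil AllS.nil c269_0 :)
theorem x270 : AuxS.{u} (cM2r 1 0) s270 0 a270 := aux_base3 tw96 rfl b270
theorem x270_1 : AuxS.{u} (cM2r 1 0) s270 0 a270_1 := x270
theorem x270_2 : AuxS.{u} (cM2r 1 0) s270 0 a270_2 := x270_1
theorem n270 : Sound.{u} (cM2r 1 0) s270 0 :=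
  (x270_2.fr2 GamS.nil AllS.nil c270_0 :)
theorem x271 : AuxS.{u} (cM2r 1 0) s271 0 a271 := aux_base3 tw97 rfl b271
theorem x271_1 : AuxS.{u} (cM2r 1 0) s271 0 a271_1 := x271
theorem x271_2 : AuxS.{u} (cM2r 1 0) s271 0 a271_2 := x271_1
theorem n271 : Sound.{u} (cM2r 1 0) s271 0 :=
  (x271_2.fr2 GamS.nil AllS.nil c271_0 :)
theorem x272 : AuxS.{u} (cM2r 1 0) s272 0 a272 := aux_base3 tw98 rfl b272
theorem x272_1 : AuxS.{u} (cM2r 1 0) s272 0 a272_1 := x272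
theorem x272_2 : AuxS.{u} (cM2r 1 0) s272 0 a272_2 := x272_1
theorem n272 : Sound.{u} (cM2r 1 0) s272 0 :=
  (x272_2.fr2 GamS.nil AllS.nil c272_0 :)
theorem x273 : AuxS.{u} (cM2r 1 0) s273 0 a273 := aux_base3 tw99 rfl b273
theorem x273_1 : AuxS.{u} (cM2r 1 0) s273 0 a273_1 := x273
theorem x273_2 : AuxS.{u} (cM2r 1 0) s273 0 a273_2 := x273_1
theorem n273 : Sound.{u} (cM2r 1 0) s273 0 :=
  (x273_2.fr2 GamS.nil AllS.nil c273_0 :)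
theorem x274 : AuxS.{u} (cM2r 1 0) s274 0 a274 := aux_base3 tw100 rfl b274
theorem x274_1 : AuxS.{u} (cM2r 1 0) s274 0 a274_1 := x274
theorem x274_2 : AuxS.{u} (cM2r 1 0) s274 0 a274_2 := x274_1
theorem x274_3 : AuxS.{u} (cM2r 1 0) s274 0 a274_3 := x274_2
theorem n274 : Sound.{u} (cM2r 1 0) s274 0 :=
  (x274_3.fr2 GamS.nil AllS.nil c274_0 :)
theorem x251 : AuxS.{u} (cM2r 1 0) s251 0 a251 := aux_base3 tw75 rfl b251
theorem x251_1 : AuxS.{u} (cM2r 1 0) s251 0 a251_1 := x251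
theorem x251_2 : AuxS.{u} (cM2r 1 0) s251 0 a251_2 := x251_1
theorem x251_3 : AuxS.{u} (cM2r 1 0) s251 0 a251_3 := x251_2
theorem x251_4 : AuxS.{u} (cM2r 1 0) s251 0 a251_4 := x251_3
theorem n251 : Sound.{u} (cM2r 1 0) s251 0 :=
  (x251_4.fr2 GamS.nil (AllS.cons n259 (AllS.cons n260 (AllS.cons n261 (AllS.cons n262 (AllS.cons n263 (AllS.cons n264 (AllS.cons n265 (AllS.cons n266 (AllS.cons n267 (AllS.cons n268 (AllS.cons n269 (AllS.cons n270 (AllS.cons n271 (AllS.cons n272 (AllS.cons n273 (AllS.cons n274 AllS.nil)))))))))))))))) c251_0 :)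
theorem x252 : AuxS.{u} (cM2r 1 0) s252 0 a252 := aux_base3 tw75 rfl b252
theorem n252 : Sound.{u} (cM2r 1 0) s252 0 :=
  (x252.k4 c252_0 :)
theorem x253 : AuxS.{u} (cM2r 1 0) s253 0 a253 := aux_base3 tw75 rfl b253
theorem n253 : Sound.{u} (cM2r 1 0) s253 0 :=
  (x253.k4 c253_0 :)
theorem x254 : AuxS.{u} (cM2r 1 0) s254 0 a254 := aux_base3 tw75 rfl b254
theorem n254 : Sound.{u} (cM2r 1 0) s254 0 :=
  (x254.k4 c254_0 :)
theorem x255 : AuxS.{u} (cM2r 1 0) s255 0 a255 := aux_base3 tw75 rfl b255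
theorem n255 : Sound.{u} (cM2r 1 0) s255 0 :=
  (x255.k4 c255_0 :)
theorem x256 : AuxS.{u} (cM2r 1 0) s256 0 a256 := aux_base3 tw75 rfl b256
theorem n256 : Sound.{u} (cM2r 1 0) s256 0 :=
  (x256.k4 c256_0 :)
theorem x257 : AuxS.{u} (cM2r 1 0) s257 0 a257 := aux_base3 tw75 rfl b257
theorem n257 : Sound.{u} (cM2r 1 0) s257 0 :=
  (x257.k4 c257_0 :)
theorem x258 : AuxS.{u} (cM2r 1 0) s258 0 a258 := aux_base3 tw75 rfl b258
theorem n258 : Sound.{u} (cM2r 1 0) s258 0 :=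
  (x258.k4 c258_0 :)
theorem x241 : AuxS.{u} (cM2r 1 0) s241 0 a241 := aux_base3 tw75 rfl b241
theorem x241_1 : AuxS.{u} (cM2r 1 0) s241 0 a241_1 := x241
theorem x241_2 : AuxS.{u} (cM2r 1 0) s241 0 a241_2 := x241_1
theorem n241 : Sound.{u} (cM2r 1 0) s241 0 :=
  (x241_2.fr (AuxS.gam x241_2 c241_0) (AllS.cons n251 (AllS.cons n252 (AllS.cons n253 (AllS.cons n254 (AllS.cons n255 (AllS.cons n256 (AllS.cons n257 (AllS.cons n258 AllS.nil)))))))) c241_1 :)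
theorem x242 : AuxS.{u} (cM2r 1 0) s242 0 a242 := aux_base3 tw76 rfl b242
theorem x242_1 : AuxS.{u} (cM2r 1 0) s242 0 a242_1 := x242
theorem x242_2 : AuxS.{u} (cM2r 1 0) s242 0 a242_2 := x242_1
theorem n242 : Sound.{u} (cM2r 1 0) s242 0 :=
  (x242_2.fr GamS.nil AllS.nil c242_0 :)
theorem x243 : AuxS.{u} (cM2r 1 0) s243 0 a243 := aux_base3 tw77 rfl b243
theorem x243_1 : AuxS.{u} (cM2r 1 0) s243 0 a243_1 := x243
theorem x243_2 : AuxS.{u} (cM2r 1 0) s243 0 a243_2 := x243_1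
theorem n243 : Sound.{u} (cM2r 1 0) s243 0 :=
  (x243_2.fr GamS.nil AllS.nil c243_0 :)
theorem x244 : AuxS.{u} (cM2r 1 0) s244 0 a244 := aux_base3 tw78 rfl b244
theorem x244_1 : AuxS.{u} (cM2r 1 0) s244 0 a244_1 := x244
theorem x244_2 : AuxS.{u} (cM2r 1 0) s244 0 a244_2 := x244_1
theorem n244 : Sound.{u} (cM2r 1 0) s244 0 :=
  (x244_2.fr GamS.nil AllS.nil c244_0 :)
theorem x429 : AuxS.{u} (cM2r 1 0) s429 0 a429 := aux_base3 tw79 rfl b429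
theorem n429 : Sound.{u} (cM2r 1 0) s429 0 :=
  (x429.k4 c429_0 :)
theorem x439 : AuxS.{u} (cM2r 1 0) s439 0 a439 := aux_base3 tw121 rfl b439
theorem n439 : Sound.{u} (cM2r 1 0) s439 0 :=
  (x439.k4 c439_0 :)
theorem x440 : AuxS.{u} (cM2r 1 0) s440 0 a440 := aux_base3 tw122 rfl b440
theorem n440 : Sound.{u} (cM2r 1 0) s440 0 :=
  (x440.k4 c440_0 :)
theorem x441 : AuxS.{u} (cM2r 1 0) s441 0 a441 := aux_base3 tw123 rfl b441
theorem n441 : Sound.{u} (cM2r 1 0) s441 0 :=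
  (x441.k4 c441_0 :)
theorem x442 : AuxS.{u} (cM2r 1 0) s442 0 a442 := aux_base3 tw124 rfl b442
theorem n442 : Sound.{u} (cM2r 1 0) s442 0 :=
  (x442.k4 c442_0 :)
theorem x453 : AuxS.{u} (cM2r 1 0) s453 0 a453 := aux_base3 tw125 rfl b453
theorem n453 : Sound.{u} (cM2r 1 0) s453 0 :=
  (x453.k4 c453_0 :)
theorem x454 : AuxS.{u} (cM2r 1 0) s454 0 a454 := aux_base3 tw125 rfl b454
theorem n454 : Sound.{u} (cM2r 1 0) s454 0 :=
  (x454.k4 c454_0 :)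
theorem x455 : AuxS.{u} (cM2r 1 0) s455 0 a455 := aux_base3 tw125 rfl b455
theorem n455 : Sound.{u} (cM2r 1 0) s455 0 :=
  (x455.k4 c455_0 :)
theorem x456 : AuxS.{u} (cM2r 1 0) s456 0 a456 := aux_base3 tw125 rfl b456
theorem x456_1 : AuxS.{u} (cM2r 1 0) s456 0 a456_1 := (AuxS.up x456 c456_13 :)
theorem x456_2 : AuxS.{u} (cM2r 1 0) s456 0 a456_2 := (AuxS.up x456_1 c456_14 :)
theorem x456_3 : AuxS.{u} (cM2r 1 0) s456 0 a456_3 := (AuxS.up x456_2 c456_15 :)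
theorem x456_L165_1 : AuxS.{u} (cM2r 1 0) s456 (165 + 2) a456_L165_1 := (AuxS.hp (x456_3.lam 165) c456_3 :)
theorem p456_5_1 : Phs s456 a456_3 [] [] ct456_5 v456_5 5 w456_5_1 := (Phs.fin c456_5)
theorem p456_5_3 : Phs s456 a456_3 [] [] ct456_5 v456_5 4 w456_5_3 := (Phs.stp c456_6 p456_5_1)
theorem p456_5_5 : Phs s456 a456_3 [] [] ct456_5 v456_5 2 w456_5_5 := (Phs.stp c456_7 p456_5_3)
theorem p456_5_7 : Phs s456 a456_3 [] [] ct456_5 v456_5 1 w456_5_7 := (Phs.stp c456_8 p456_5_5)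
theorem p456_5_10 : Phs s456 a456_3 [] [] ct456_5 v456_5 5 w456_5_10 := (Phs.fin c456_10)
theorem n456 : Sound.{u} (cM2r 1 0) s456 0 :=
  (x456_3.spl c456_0 (AllM.cons ((x456_3.lam 0).tp c456_1 :) (AllM.cons ((x456_3.lam 33).e8 c456_2 :) (AllM.cons (x456_L165_1.tp c456_4 :) AllM.nil))) ((x456_3.weaken 1).ext2 (fun _ => rfl) GamS.nil AllS.nil c456_12 (Phs.stp c456_9 p456_5_7) (Phs.stp c456_11 p456_5_10)) :)
theorem x443 : AuxS.{u} (cM2r 1 0) s443 0 a443 := aux_base3 tw125 rfl b443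
theorem x443_1 : AuxS.{u} (cM2r 1 0) s443 0 a443_1 := x443
theorem x443_2 : AuxS.{u} (cM2r 1 0) s443 0 a443_2 := x443_1
theorem n443 : Sound.{u} (cM2r 1 0) s443 0 :=
  (x443_2.fr (AuxS.gam x443_2 c443_0) (AllS.cons n453 (AllS.cons n454 (AllS.cons n455 (AllS.cons n456 AllS.nil)))) c443_1 :)
theorem x444 : AuxS.{u} (cM2r 1 0) s444 0 a444 := aux_base3 tw126 rfl b444
theorem x444_1 : AuxS.{u} (cM2r 1 0) s444 0 a444_1 := x444
theorem x444_2 : AuxS.{u} (cM2r 1 0) s444 0 a444_2 := x444_1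
theorem n444 : Sound.{u} (cM2r 1 0) s444 0 :=
  (x444_2.fr GamS.nil AllS.nil c444_0 :)
theorem x457 : AuxS.{u} (cM2r 1 0) s457 0 a457 := aux_base3 tw127 rfl b457
theorem n457 : Sound.{u} (cM2r 1 0) s457 0 :=
  (x457.k4 c457_0 :)
theorem x458 : AuxS.{u} (cM2r 1 0) s458 0 a458 := aux_base3 tw127 rfl b458
theorem n458 : Sound.{u} (cM2r 1 0) s458 0 :=
  (x458.k4 c458_0 :)
theorem x459 : AuxS.{u} (cM2r 1 0) s459 0 a459 := aux_base3 tw127 rfl b459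
theorem x459_1 : AuxS.{u} (cM2r 1 0) s459 0 a459_1 := (AuxS.up x459 c459_13 :)
theorem x459_2 : AuxS.{u} (cM2r 1 0) s459 0 a459_2 := (AuxS.up x459_1 c459_14 :)
theorem x459_3 : AuxS.{u} (cM2r 1 0) s459 0 a459_3 := (AuxS.up x459_2 c459_15 :)
theorem x459_L165_1 : AuxS.{u} (cM2r 1 0) s459 (165 + 2) a459_L165_1 := (AuxS.hp (x459_3.lam 165) c459_3 :)
theorem p459_5_1 : Phs s459 a459_3 [] [] ct459_5 v459_5 5 w459_5_1 := (Phs.fin c459_5)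
theorem p459_5_3 : Phs s459 a459_3 [] [] ct459_5 v459_5 4 w459_5_3 := (Phs.stp c459_6 p459_5_1)
theorem p459_5_5 : Phs s459 a459_3 [] [] ct459_5 v459_5 2 w459_5_5 := (Phs.stp c459_7 p459_5_3)
theorem p459_5_7 : Phs s459 a459_3 [] [] ct459_5 v459_5 1 w459_5_7 := (Phs.stp c459_8 p459_5_5)
theorem p459_5_10 : Phs s459 a459_3 [] [] ct459_5 v459_5 5 w459_5_10 := (Phs.fin c459_10)
theorem n459 : Sound.{u} (cM2r 1 0) s459 0 :=
  (x459_3.spl c459_0 (AllM.cons ((x459_3.lam 0).tp c459_1 :) (AllM.cons ((x459_3.lam 161).e8 c459_2 :) (AllM.cons (x459_L165_1.tp c459_4 :) AllM.nil))) ((x459_3.weaken 1).ext2 (fun _ => rfl) GamS.nil AllS.nil c459_12 (Phs.stp c459_9 p459_5_7) (Phs.stp c459_11 p459_5_10)) :)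
theorem x460 : AuxS.{u} (cM2r 1 0) s460 0 a460 := aux_base3 tw127 rfl b460
theorem n460 : Sound.{u} (cM2r 1 0) s460 0 :=
  (x460.k4 c460_0 :)
theorem x445 : AuxS.{u} (cM2r 1 0) s445 0 a445 := aux_base3 tw127 rfl b445
theorem x445_1 : AuxS.{u} (cM2r 1 0) s445 0 a445_1 := x445
theorem x445_2 : AuxS.{u} (cM2r 1 0) s445 0 a445_2 := x445_1
theorem n445 : Sound.{u} (cM2r 1 0) s445 0 :=
  (x445_2.fr (AuxS.gam x445_2 c445_0) (AllS.cons n457 (AllS.cons n458 (AllS.cons n459 (AllS.cons n460 AllS.nil)))) c445_1 :)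
theorem x446 : AuxS.{u} (cM2r 1 0) s446 0 a446 := aux_base3 tw128 rfl b446
theorem x446_1 : AuxS.{u} (cM2r 1 0) s446 0 a446_1 := x446
theorem x446_2 : AuxS.{u} (cM2r 1 0) s446 0 a446_2 := x446_1
theorem n446 : Sound.{u} (cM2r 1 0) s446 0 :=
  (x446_2.fr GamS.nil AllS.nil c446_0 :)
theorem x447 : AuxS.{u} (cM2r 1 0) s447 0 a447 := aux_base3 tw129 rfl b447
theorem n447 : Sound.{u} (cM2r 1 0) s447 0 :=
  (x447.k3 c447_0 :)
theorem x448 : AuxS.{u} (cM2r 1 0) s448 0 a448 := aux_base3 tw130 rfl b448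
theorem n448 : Sound.{u} (cM2r 1 0) s448 0 :=
  (x448.k3 c448_0 :)
theorem x449 : AuxS.{u} (cM2r 1 0) s449 0 a449 := aux_base3 tw131 rfl b449
theorem n449 : Sound.{u} (cM2r 1 0) s449 0 :=
  (x449.k3 c449_0 :)
theorem x450 : AuxS.{u} (cM2r 1 0) s450 0 a450 := aux_base3 tw132 rfl b450
theorem n450 : Sound.{u} (cM2r 1 0) s450 0 :=
  (x450.k3 c450_0 :)
theorem x451 : AuxS.{u} (cM2r 1 0) s451 0 a451 := aux_base3 tw133 rfl b451
theorem n451 : Sound.{u} (cM2r 1 0) s451 0 :=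
  (x451.k3 c451_0 :)
theorem x452 : AuxS.{u} (cM2r 1 0) s452 0 a452 := aux_base3 tw134 rfl b452
theorem n452 : Sound.{u} (cM2r 1 0) s452 0 :=
  (x452.k3 c452_0 :)
theorem x437 : AuxS.{u} (cM2r 1 0) s437 0 a437 := aux_base3 tw119 rfl b437
theorem x437_1 : AuxS.{u} (cM2r 1 0) s437 0 a437_1 := (AuxS.up x437 c437_18 :)
theorem x437_2p : AuxS.{u} (cM2r 1 0) s437 0 a437_2p := (AuxS.up x437_1 c437_19 :)
theorem x437_2 : AuxS.{u} (cM2r 1 0) s437 0 a437_2 := (AuxS.up2 x437_2p c437_20 :)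
theorem x437_L37_1 : AuxS.{u} (cM2r 1 0) s437 (37 + 2) a437_L37_1 := (AuxS.hp (x437_2.lam 37) c437_3 :)
theorem x437_L37_2 : AuxS.{u} (cM2r 1 0) s437 (37 + 2) a437_L37_2 := (AuxS.ne x437_L37_1 c437_4 :)
theorem x437_L165_1 : AuxS.{u} (cM2r 1 0) s437 (165 + 2) a437_L165_1 := (AuxS.hp (x437_2.lam 165) c437_7 :)
theorem p437_9_1 : Phs s437 a437_2 [] [s439, s440, s441, s442, s443, s444, s445, s446, s447, s448, s449, s450, s451, s452] ct437_9 v437_9 5 w437_9_1 := (Phs.fin c437_9)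
theorem p437_9_3 : Phs s437 a437_2 [] [s439, s440, s441, s442, s443, s444, s445, s446, s447, s448, s449, s450, s451, s452] ct437_9 v437_9 4 w437_9_3 := (Phs.stp c437_10 p437_9_1)
theorem p437_9_6 : Phs s437 a437_2 [] [s439, s440, s441, s442, s443, s444, s445, s446, s447, s448, s449, s450, s451, s452] ct437_9 v437_9 2 w437_9_6 := (Phs.app (Phs.stp c437_11 p437_9_3) (Phs.stp c437_12 p437_9_3))
theorem p437_9_8 : Phs s437 a437_2 [] [s439, s440, s441, s442, s443, s444, s445, s446, s447, s448, s449, s450, s451, s452] ct437_9 v437_9 1 w437_9_8 := (Phs.stp c437_13 p437_9_6)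
theorem p437_9_11 : Phs s437 a437_2 [] [s439, s440, s441, s442, s443, s444, s445, s446, s447, s448, s449, s450, s451, s452] ct437_9 v437_9 5 w437_9_11 := (Phs.fin c437_15)
theorem n437 : Sound.{u} (cM2r 1 0) s437 0 :=
  (x437_2.spl c437_0 (AllM.cons ((x437_2.lam 0).tp c437_1 :) (AllM.cons ((x437_2.lam 33).e8 c437_2 :) (AllM.cons (x437_L37_2.tp c437_5 :) (AllM.cons ((x437_2.lam 161).e8 c437_6 :) (AllM.cons (x437_L165_1.tp c437_8 :) AllM.nil))))) ((x437_2.weaken 1).ext2 (fun _ => rfl) GamS.nil (AllS.cons n439 (AllS.cons n440 (AllS.cons n441 (AllS.cons n442 (AllS.cons n443 (AllS.cons n444 (AllS.cons n445 (AllS.cons n446 (AllS.cons n447 (AllS.cons n448 (AllS.cons n449 (AllS.cons n450 (AllS.cons n451 (AllS.cons n452 AllS.nil)))))))))))))) c437_17 (Phs.stp c437_14 p437_9_8) (Phs.stp c437_16 p437_9_11)) :)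
theorem x467 : AuxS.{u} (cM2r 1 0) s467 0 a467 := aux_base3 tw135 rfl b467
theorem n467 : Sound.{u} (cM2r 1 0) s467 0 :=
  (x467.k4 c467_0 :)
theorem x468 : AuxS.{u} (cM2r 1 0) s468 0 a468 := aux_base3 tw135 rfl b468
theorem x468_1 : AuxS.{u} (cM2r 1 0) s468 0 a468_1 := (AuxS.up x468 c468_13 :)
theorem x468_2 : AuxS.{u} (cM2r 1 0) s468 0 a468_2 := (AuxS.up x468_1 c468_14 :)
theorem x468_3 : AuxS.{u} (cM2r 1 0) s468 0 a468_3 := (AuxS.up x468_2 c468_15 :)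
theorem x468_4 : AuxS.{u} (cM2r 1 0) s468 0 a468_4 := (AuxS.up x468_3 c468_16 :)
theorem x468_L293_1 : AuxS.{u} (cM2r 1 0) s468 (293 + 2) a468_L293_1 := (AuxS.hp (x468_4.lam 293) c468_3 :)
theorem p468_5_1 : Phs s468 a468_4 [] [] ct468_5 v468_5 5 w468_5_1 := (Phs.fin c468_5)
theorem p468_5_3 : Phs s468 a468_4 [] [] ct468_5 v468_5 4 w468_5_3 := (Phs.stp c468_6 p468_5_1)
theorem p468_5_5 : Phs s468 a468_4 [] [] ct468_5 v468_5 2 w468_5_5 := (Phs.stp c468_7 p468_5_3)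
theorem p468_5_7 : Phs s468 a468_4 [] [] ct468_5 v468_5 1 w468_5_7 := (Phs.stp c468_8 p468_5_5)
theorem p468_5_10 : Phs s468 a468_4 [] [] ct468_5 v468_5 5 w468_5_10 := (Phs.fin c468_10)
theorem n468 : Sound.{u} (cM2r 1 0) s468 0 :=
  (x468_4.spl c468_0 (AllM.cons ((x468_4.lam 0).tp c468_1 :) (AllM.cons ((x468_4.lam 33).e8 c468_2 :) (AllM.cons (x468_L293_1.tp c468_4 :) AllM.nil))) ((x468_4.weaken 1).ext2 (fun _ => rfl) GamS.nil AllS.nil c468_12 (Phs.stp c468_9 p468_5_7) (Phs.stp c468_11 p468_5_10)) :)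
theorem x469 : AuxS.{u} (cM2r 1 0) s469 0 a469 := aux_base3 tw135 rfl b469
theorem n469 : Sound.{u} (cM2r 1 0) s469 0 :=
  (x469.k4 c469_0 :)
theorem x470 : AuxS.{u} (cM2r 1 0) s470 0 a470 := aux_base3 tw135 rfl b470
theorem n470 : Sound.{u} (cM2r 1 0) s470 0 :=
  (x470.k4 c470_0 :)
theorem x461 : AuxS.{u} (cM2r 1 0) s461 0 a461 := aux_base3 tw135 rfl b461
theorem x461_1 : AuxS.{u} (cM2r 1 0) s461 0 a461_1 := x461
theorem x461_2 : AuxS.{u} (cM2r 1 0) s461 0 a461_2 := x461_1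
theorem n461 : Sound.{u} (cM2r 1 0) s461 0 :=
  (x461_2.fr (AuxS.gam x461_2 c461_0) (AllS.cons n467 (AllS.cons n468 (AllS.cons n469 (AllS.cons n470 AllS.nil)))) c461_1 :)
theorem x462 : AuxS.{u} (cM2r 1 0) s462 0 a462 := aux_base3 tw136 rfl b462
theorem x462_1 : AuxS.{u} (cM2r 1 0) s462 0 a462_1 := x462
theorem x462_2 : AuxS.{u} (cM2r 1 0) s462 0 a462_2 := x462_1
theorem n462 : Sound.{u} (cM2r 1 0) s462 0 :=
  (x462_2.fr GamS.nil AllS.nil c462_0 :)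
theorem x463 : AuxS.{u} (cM2r 1 0) s463 0 a463 := aux_base3 tw137 rfl b463
theorem n463 : Sound.{u} (cM2r 1 0) s463 0 :=
  (x463.k3 c463_0 :)
theorem x464 : AuxS.{u} (cM2r 1 0) s464 0 a464 := aux_base3 tw138 rfl b464
theorem n464 : Sound.{u} (cM2r 1 0) s464 0 :=
  (x464.k3 c464_0 :)
theorem x465 : AuxS.{u} (cM2r 1 0) s465 0 a465 := aux_base3 tw139 rfl b465
theorem n465 : Sound.{u} (cM2r 1 0) s465 0 :=
  (x465.k3 c465_0 :)
theorem x466 : AuxS.{u} (cM2r 1 0) s466 0 a466 := aux_base3 tw140 rfl b466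
theorem n466 : Sound.{u} (cM2r 1 0) s466 0 :=
  (x466.k3 c466_0 :)
theorem x438 : AuxS.{u} (cM2r 1 0) s438 0 a438 := aux_base3 tw120 rfl b438
theorem x438_1 : AuxS.{u} (cM2r 1 0) s438 0 a438_1 := (AuxS.up x438 c438_18 :)
theorem x438_2p : AuxS.{u} (cM2r 1 0) s438 0 a438_2p := (AuxS.up x438_1 c438_19 :)
theorem x438_2 : AuxS.{u} (cM2r 1 0) s438 0 a438_2 := (AuxS.up2 x438_2p c438_20 :)
theorem x438_L37_1 : AuxS.{u} (cM2r 1 0) s438 (37 + 2) a438_L37_1 := (AuxS.hp (x438_2.lam 37) c438_3 :)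
theorem x438_L37_2 : AuxS.{u} (cM2r 1 0) s438 (37 + 2) a438_L37_2 := (AuxS.ne x438_L37_1 c438_4 :)
theorem x438_L165_1 : AuxS.{u} (cM2r 1 0) s438 (165 + 2) a438_L165_1 := (AuxS.hp (x438_2.lam 165) c438_7 :)
theorem p438_9_1 : Phs s438 a438_2 [] [s461, s462, s463, s464, s465, s466] ct438_9 v438_9 5 w438_9_1 := (Phs.fin c438_9)
theorem p438_9_3 : Phs s438 a438_2 [] [s461, s462, s463, s464, s465, s466] ct438_9 v438_9 4 w438_9_3 := (Phs.stp c438_10 p438_9_1)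
theorem p438_9_6 : Phs s438 a438_2 [] [s461, s462, s463, s464, s465, s466] ct438_9 v438_9 2 w438_9_6 := (Phs.app (Phs.stp c438_11 p438_9_3) (Phs.stp c438_12 p438_9_3))
theorem p438_9_8 : Phs s438 a438_2 [] [s461, s462, s463, s464, s465, s466] ct438_9 v438_9 1 w438_9_8 := (Phs.stp c438_13 p438_9_6)
theorem p438_9_11 : Phs s438 a438_2 [] [s461, s462, s463, s464, s465, s466] ct438_9 v438_9 5 w438_9_11 := (Phs.fin c438_15)
theorem n438 : Sound.{u} (cM2r 1 0) s438 0 :=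
  (x438_2.spl c438_0 (AllM.cons ((x438_2.lam 0).tp c438_1 :) (AllM.cons ((x438_2.lam 33).e8 c438_2 :) (AllM.cons (x438_L37_2.tp c438_5 :) (AllM.cons ((x438_2.lam 161).e8 c438_6 :) (AllM.cons (x438_L165_1.tp c438_8 :) AllM.nil))))) ((x438_2.weaken 1).ext2 (fun _ => rfl) GamS.nil (AllS.cons n461 (AllS.cons n462 (AllS.cons n463 (AllS.cons n464 (AllS.cons n465 (AllS.cons n466 AllS.nil)))))) c438_17 (Phs.stp c438_14 p438_9_8) (Phs.stp c438_16 p438_9_11)) :)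
theorem x430 : AuxS.{u} (cM2r 1 0) s430 0 a430 := aux_base3 tw79 rfl b430
theorem x430_1 : AuxS.{u} (cM2r 1 0) s430 0 a430_1 := (AuxS.up x430 c430_1 :)
theorem n430 : Sound.{u} (cM2r 1 0) s430 0 :=
  (x430_1.fr2 GamS.nil (AllS.cons n437 (AllS.cons n438 AllS.nil)) c430_0 :)
theorem x431 : AuxS.{u} (cM2r 1 0) s431 0 a431 := aux_base3 tw79 rfl b431
theorem n431 : Sound.{u} (cM2r 1 0) s431 0 :=
  (x431.k4 c431_0 :)
theorem x432 : AuxS.{u} (cM2r 1 0) s432 0 a432 := aux_base3 tw79 rfl b432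
theorem n432 : Sound.{u} (cM2r 1 0) s432 0 :=
  (x432.k4 c432_0 :)
theorem x433 : AuxS.{u} (cM2r 1 0) s433 0 a433 := aux_base3 tw79 rfl b433
theorem n433 : Sound.{u} (cM2r 1 0) s433 0 :=
  (x433.k4 c433_0 :)
theorem x434 : AuxS.{u} (cM2r 1 0) s434 0 a434 := aux_base3 tw79 rfl b434
theorem n434 : Sound.{u} (cM2r 1 0) s434 0 :=
  (x434.k4 c434_0 :)
theorem x435 : AuxS.{u} (cM2r 1 0) s435 0 a435 := aux_base3 tw79 rfl b435
theorem n435 : Sound.{u} (cM2r 1 0) s435 0 :=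
  (x435.k4 c435_0 :)
theorem x436 : AuxS.{u} (cM2r 1 0) s436 0 a436 := aux_base3 tw79 rfl b436
theorem n436 : Sound.{u} (cM2r 1 0) s436 0 :=
  (x436.k4 c436_0 :)
theorem x245 : AuxS.{u} (cM2r 1 0) s245 0 a245 := aux_base3 tw79 rfl b245
theorem x245_1 : AuxS.{u} (cM2r 1 0) s245 0 a245_1 := x245
theorem n245 : Sound.{u} (cM2r 1 0) s245 0 :=
  (x245_1.fr (AuxS.gam x245_1 c245_0) (AllS.cons n429 (AllS.cons n430 (AllS.cons n431 (AllS.cons n432 (AllS.cons n433 (AllS.cons n434 (AllS.cons n435 (AllS.cons n436 AllS.nil)))))))) c245_1 :)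
theorem x246 : AuxS.{u} (cM2r 1 0) s246 0 a246 := aux_base3 tw80 rfl b246
theorem x246_1 : AuxS.{u} (cM2r 1 0) s246 0 a246_1 := x246
theorem n246 : Sound.{u} (cM2r 1 0) s246 0 :=
  (x246_1.fr GamS.nil AllS.nil c246_0 :)
theorem x247 : AuxS.{u} (cM2r 1 0) s247 0 a247 := aux_base3 tw81 rfl b247
theorem x247_1 : AuxS.{u} (cM2r 1 0) s247 0 a247_1 := x247
theorem n247 : Sound.{u} (cM2r 1 0) s247 0 :=
  (x247_1.fr GamS.nil AllS.nil c247_0 :)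
theorem x248 : AuxS.{u} (cM2r 1 0) s248 0 a248 := aux_base3 tw82 rfl b248
theorem x248_1 : AuxS.{u} (cM2r 1 0) s248 0 a248_1 := x248
theorem n248 : Sound.{u} (cM2r 1 0) s248 0 :=
  (x248_1.fr GamS.nil AllS.nil c248_0 :)
theorem x249 : AuxS.{u} (cM2r 1 0) s249 0 a249 := aux_base3 tw83 rfl b249
theorem n249 : Sound.{u} (cM2r 1 0) s249 0 :=
  (x249.k3 c249_0 :)
theorem x250 : AuxS.{u} (cM2r 1 0) s250 0 a250 := aux_base3 tw84 rfl b250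
theorem n250 : Sound.{u} (cM2r 1 0) s250 0 :=
  (x250.k3 c250_0 :)
theorem x240 : AuxS.{u} (cM2r 1 0) s240 0 a240 := aux_base3 tw3 rfl b240
theorem x240_1 : AuxS.{u} (cM2r 1 0) s240 0 a240_1 := (AuxS.up x240 c240_5 :)
theorem p240_0_1 : Phs s240 a240_1 (List.map Prod.fst g240_0) [s241, s242, s243, s244, s245, s246, s247, s248, s249, s250] ct240_0 v240_0 4 w240_0_1 := (Phs.fin c240_1)
theorem p240_0_3 : Phs s240 a240_1 (List.map Prod.fst g240_0) [s241, s242, s243, s244, s245, s246, s247, s248, s249, s250] ct240_0 v240_0 1 w240_0_3 := (Phs.stp c240_2 p240_0_1)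
theorem n240 : Sound.{u} (cM2r 1 0) s240 0 :=
  (x240_1.ext2 (fun h => absurd h (by decide)) (AuxS.gam x240_1 c240_0) (AllS.cons n241 (AllS.cons n242 (AllS.cons n243 (AllS.cons n244 (AllS.cons n245 (AllS.cons n246 (AllS.cons n247 (AllS.cons n248 (AllS.cons n249 (AllS.cons n250 AllS.nil)))))))))) c240_4 (Phs.stp c240_3 p240_0_3) (Phs.fin (ct := ct240_0) rfl) :)
theorem x238 : AuxS.{u} (cM2r 1 0) s238 0 a238 := aux_base3 tw73 rfl b238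
theorem x238_1 : AuxS.{u} (cM2r 1 0) s238 0 a238_1 := x238
theorem x238_2 : AuxS.{u} (cM2r 1 0) s238 0 a238_2 := x238_1
theorem n238 : Sound.{u} (cM2r 1 0) s238 0 :=
  (x238_2.jump c238_0 c238_1 n240 :)
theorem x239 : AuxS.{u} (cM2r 1 0) s239 0 a239 := aux_base3 tw74 rfl b239
theorem x239_1 : AuxS.{u} (cM2r 1 0) s239 0 a239_1 := (AuxS.up x239 c239_1 :)
theorem n239 : Sound.{u} (cM2r 1 0) s239 0 :=
  (x239_1.k1 c239_0 :)
theorem x3 : AuxS.{u} (cM2r 1 0) s3 0 a3 := aux_base3 tw3 rfl b3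
theorem x3_1 : AuxS.{u} (cM2r 1 0) s3 0 a3_1 := x3
theorem n3 : Sound.{u} (cM2r 1 0) s3 0 :=
  (x3_1.ext2 (fun h => absurd h (by decide)) GamS.nil (AllS.cons n238 (AllS.cons n239 AllS.nil)) c3_1 (Phs.fin (ct := ct3_0) rfl) (Phs.fin c3_0) :)
theorem x4 : AuxS.{u} (cM2r 1 0) s4 0 a4 := aux_base3 tw4 rfl b4
theorem x4_1 : AuxS.{u} (cM2r 1 0) s4 0 a4_1 := (AuxS.up x4 c4_1 :)
theorem n4 : Sound.{u} (cM2r 1 0) s4 0 :=
  (x4_1.k1 c4_0 :)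
theorem x0 : AuxS.{u} (cM2r 1 0) s0 0 a0 := aux_base3 tw0 rfl b0
theorem x0_1 : AuxS.{u} (cM2r 1 0) s0 0 a0_1 := (AuxS.up x0 c0_3 :)
theorem p0_0_1 : Phs s0 a0_1 [] [s1, s2, s3, s4] ct0_0 v0_0 1 w0_0_1 := (Phs.fin c0_0)
theorem n0 : Sound.{u} (cM2r 1 0) s0 0 :=
  (x0_1.ext2 (fun h => absurd h (by decide)) GamS.nil (AllS.cons n1 (AllS.cons n2 (AllS.cons n3 (AllS.cons n4 AllS.nil)))) c0_2 (Phs.stp c0_1 p0_0_1) (Phs.fin (ct := ct0_0) rfl) :)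

theorem main : Sound.{u} (cM2r 1 0) (root 1) 0 := n0

end

end CfsgLib.L3E.TM10
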